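import Cfsg.Agent.Nodes.RGDChev
import Cfsg.Agent.ChevalleyStructure.RootSupport
import Cfsg.Agent.ChevalleyStructure.St.Functional
import Mathlib
import Cfsg.Agent.ChevalleyStructure.CorootGcd
import Cfsg.Agent.H157.Ab.Rows
import Cfsg.Agent.S2326
import Cfsg.Agent.ChevFast.E6
import Cfsg.Agent.ChevFast.E7
import Cfsg.Agent.ChevFast.E8
import Cfsg.Agent.S1066
import Cfsg.Agent.FastGrp
import Cfsg.Agent.Prune
set_option linter.all false

section
prune_inst 0x7ffdfcfdffbdffffffff7e7ffed9dffdf9d7ffffffdffbfbffe8e1ffaf9f2b86bbe56bad7de05aff1ef7e0be30b87853fbffefffec6fdc7ffffd5ff41ffbee1ff7ffb5897197a83e0f7e6fff9bf07fca7f3fffffffffffffffffffffffffffbeffffffffffff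

-- part: H332/Ab/PB
section
prune_inst 0x2200000000000000000000000000000000040000009002000000000000000000000000000000000000000000000000400000000000080400001000108000006000000000000000000000000000000000000000000000000000
set_option linter.all false
open scoped Cfsg.Agent.FastGrp

-- part: H332/Ab/Filt
section
/-!
# The filtration of the unipotent group by a linear functional (helper332)

`ff D m r = ∑ m a * rt D r a` an integral linear functional on the roots; `V c` the group generated by the root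
elements with `c ≤ ff r`; `V c` consists of matrices of degree at least `c`; `⁅V c, V d⁆ ≤ V (c + d)`; the coordinates
`ka i z` (matrix entries) and the leading term of a commutator.
-/

set_option autoImplicit false

namespace Cfsg.Agent.H332.Ab.Filt

open Cfsg.Lie Cfsg.Agent.ChevalleyStructure Cfsg.Agent.ChevalleyStructure.Elts
  Cfsg.Agent.ChevalleyStructure.RootVec Cfsg.Agent.ChevalleyStructure.RootVecTab
  Cfsg.Agent.ChevalleyStructure.RootSupport
open scoped commutatorElement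

universe u

variable {D : ChevalleyDatum} {F : Type u} [Field F] {m : ℕ → ℤ}

/-- an integral linear functional on the roots -/
def ff (D : ChevalleyDatum) (m : ℕ → ℤ) (r : ℕ) : ℤ := ∑ a ∈ Finset.range D.rank, m a * rt D r a

/-- the degree of a basis vector -/
def dg (D : ChevalleyDatum) (m : ℕ → ℤ) (x : D.Idx) : ℤ := ∑ a ∈ Finset.range D.rank, m a * wt D x a

theorem dg_inl (i : Fin D.rank) : dg D m (Sum.inl i) = 0 := by
  unfold dg
  exact Finset.sum_eq_zero fun a _ => by rw [wt_inl, mul_zero]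

theorem ff_neg (h : Checked D) {r : ℕ} (hr : r < D.nroots) : ff D m (D.neg r) = - ff D m r := by
  unfold ff
  rw [← Finset.sum_neg_distrib]
  exact Finset.sum_congr rfl fun a _ => by rw [rt_neg h hr]; ring

theorem ff_comb {u r s : ℕ} {i j : ℤ} (h : ∀ a, rt D u a = i * rt D r a + j * rt D s a) :
    ff D m u = i * ff D m r + j * ff D m s := by
  unfold ff
  rw [Finset.mul_sum, Finset.mul_sum, ← Finset.sum_add_distrib]
  exact Finset.sum_congr rfl fun a _ => by rw [h]; ring

/-- `M - 1` has degree at least `c` -/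
def Dg (D : ChevalleyDatum) (m : ℕ → ℤ) (c : ℤ) (M : Matrix D.Idx D.Idx F) : Prop :=
  ∀ u v, M u v ≠ (1 : Matrix D.Idx D.Idx F) u v → dg D m v + c ≤ dg D m u

theorem Dg.eq {c : ℤ} {M : Matrix D.Idx D.Idx F} (h : Dg D m c M) {u v : D.Idx} (huv : dg D m u < dg D m v + c) :
    M u v = (1 : Matrix D.Idx D.Idx F) u v := by
  by_contra h1
  have := h u v h1
  omega

theorem dg_one (c : ℤ) : Dg D m c (1 : Matrix D.Idx D.Idx F) := fun _ _ h => absurd rfl h

theorem Dg.mono {c d : ℤ} (hcd : c ≤ d) {M : Matrix D.Idx D.Idx F} (h : Dg D m d M) : Dg D m c M := by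
  intro u v huv
  have := h u v huv
  omega

theorem dg_mul {c : ℤ} (hc : 1 ≤ c) {M N : Matrix D.Idx D.Idx F} (hM : Dg D m c M) (hN : Dg D m c N) :
    Dg D m c (M * N) := by
  intro u v huv
  by_contra hlt
  apply huv
  rw [Matrix.mul_apply]
  have h1 : ∀ w, M u w * N w v = (if u = w then N w v else 0) := by
    intro w
    by_cases huw : u = w
    · subst huw
      rw [if_pos rfl, hM.eq (by omega), Matrix.one_apply_eq, one_mul]
    · rw [if_neg huw]
      by_cases h2 : M u w = 0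
      · rw [h2, zero_mul]
      · have h3 := hM u w (by rw [Matrix.one_apply_ne huw]; exact h2)
        have h4 : N w v = (1 : Matrix D.Idx D.Idx F) w v := hN.eq (by omega)
        have h5 : w ≠ v := by rintro rfl; omega
        rw [h4, Matrix.one_apply_ne h5, mul_zero]
  rw [Finset.sum_congr rfl fun w _ => h1 w, Finset.sum_ite_eq, if_pos (Finset.mem_univ _)]
  exact hN.eq (by omega)

theorem dg_x (h : Checked D) {c : ℤ} (hc : 0 ≤ c) {r : ℕ} (hr : c ≤ ff D m r) (t : F) : Dg D m c (D.x F r t) := by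
  intro u v huv
  obtain ⟨k, hk, h1⟩ := x_sub_one_support h r t u v (by rw [Matrix.sub_apply]; exact sub_ne_zero.2 huv)
  have h2 : dg D m u = dg D m v + k * ff D m r := by
    unfold dg ff
    rw [Finset.mul_sum, ← Finset.sum_add_distrib]
    exact Finset.sum_congr rfl fun a _ => by rw [h1]; ring
  rw [h2]
  have h3 : (1 : ℤ) * ff D m r ≤ k * ff D m r := mul_le_mul_of_nonneg_right (by exact_mod_cast hk) (by omega)
  omega

/-- the group generated by the root elements with `c ≤ ff r` -/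
def V (hD : InList D) (F : Type u) [Field F] (m : ℕ → ℤ) (c : ℤ) : Subgroup (GL D.Idx F) :=
  Subgroup.closure {x | ∃ (r : ℕ) (t : F), r < D.nroots ∧ c ≤ ff D m r ∧ x = xG hD r t}

variable {hD : InList D}

theorem xG_mem_V {c : ℤ} {r : ℕ} (hr : r < D.nroots) (hc : c ≤ ff D m r) (t : F) : xG hD r t ∈ V hD F m c :=
  Subgroup.subset_closure ⟨r, t, hr, hc, rfl⟩

theorem V_anti {c d : ℤ} (hcd : c ≤ d) : V hD F m d ≤ V hD F m c := by
  apply Subgroup.closure_mono
  rintro x ⟨r, t, hr, h1, rfl⟩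
  exact ⟨r, t, hr, hcd.trans h1, rfl⟩

theorem V_eq {c d : ℤ} (hcd : c ≤ d) (h : ∀ r < D.nroots, c ≤ ff D m r → d ≤ ff D m r) :
    V hD F m c = V hD F m d := by
  apply le_antisymm _ (V_anti hcd)
  apply Subgroup.closure_mono
  rintro x ⟨r, t, hr, h1, rfl⟩
  exact ⟨r, t, hr, h r hr h1, rfl⟩

theorem V_eq_bot {c : ℤ} (h : ∀ r < D.nroots, ff D m r < c) : V hD F m c = ⊥ := by
  rw [V, Subgroup.closure_eq_bot_iff]
  rintro x ⟨r, t, hr, h1, rfl⟩
  exact absurd h1 (not_le.2 (h r hr))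

/-- left induction with generators only -/
theorem V_induction {c : ℤ} {P : GL D.Idx F → Prop} (one : P 1)
    (mul : ∀ (r : ℕ) (t : F), r < D.nroots → c ≤ ff D m r → ∀ g ∈ V hD F m c, P g → P (xG hD r t * g))
    {g : GL D.Idx F} (hg : g ∈ V hD F m c) : P g := by
  unfold V at hg
  induction hg using Subgroup.closure_induction_left with
  | one => exact one
  | mul_left x hx y hy ih =>
    obtain ⟨r, t, hr, h1, rfl⟩ := hx
    exact mul r t hr h1 y hy ih
  | inv_mul_cancel x hx y hy ih =>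
    obtain ⟨r, t, hr, h1, rfl⟩ := hx
    rw [xG_inv]
    exact mul r (-t) hr h1 y hy ih

theorem coe_xG' (r : ℕ) (t : F) : ((xG hD r t : GL D.Idx F) : Matrix D.Idx D.Idx F) = D.x F r t := rfl

theorem V_dg (h : Checked D) {c : ℤ} (hc : 1 ≤ c) {g : GL D.Idx F} (hg : g ∈ V hD F m c) :
    Dg D m c (g : Matrix D.Idx D.Idx F) := by
  refine V_induction (P := fun g => Dg D m c (g : Matrix D.Idx D.Idx F)) ?_ ?_ hg
  · rw [Units.val_one]; exact dg_one c
  · intro r t hr h1 g _ ih
    rw [Units.val_mul]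
    exact dg_mul hc (dg_x h (by omega) h1 t) ih

/-- the commutator formula -/
theorem comm_xG (h : Checked D) {r s : ℕ} (hr : r < D.nroots) (hs : s < D.nroots) (hr1 : 1 ≤ ff D m r)
    (hs1 : 1 ≤ ff D m s) (t u : F) :
    ⁅xG hD s u, xG hD r t⁆ = if s = r then 1 else wordG hD (D.commWord F r s (-t) (-u)) := by
  by_cases hsr : s = r
  · subst hsr
    rw [if_pos rfl, commutatorElement_eq_one_iff_mul_comm, xG_add, xG_add, add_comm]
  · rw [if_neg hsr]
    have hneg : s ≠ D.neg r := by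
      rintro rfl
      rw [ff_neg h hr] at hs1
      omega
    have h1 := Cfsg.Agent.S1025.result (F := F) D hD r s hr hs hsr hneg (-t) (-u)
    have h2 : xG hD s (-u) * xG hD r (-t) = xG hD r (-t) * xG hD s (-u) * wordG hD (D.commWord F r s (-t) (-u)) := by
      apply Units.ext
      rw [Units.val_mul, Units.val_mul, Units.val_mul, coe_wordG]
      exact h1
    rw [← xG_inv, ← xG_inv] at h2
    rw [commutatorElement_def]
    have h3 : xG hD s u * xG hD r t * (xG hD s u)⁻¹ * (xG hD r t)⁻¹ =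
        ((xG hD r t)⁻¹ * (xG hD s u)⁻¹)⁻¹ * ((xG hD s u)⁻¹ * (xG hD r t)⁻¹) := by group
    rw [h3, h2]
    group

theorem wordG_mem {K : Subgroup (GL D.Idx F)} {w : List (ℕ × F)} (hw : ∀ c ∈ w, xG hD c.1 c.2 ∈ K) :
    wordG hD w ∈ K := by
  induction w with
  | nil => exact one_mem _
  | cons c w ih =>
    rw [wordG_cons]
    exact mul_mem (hw c List.mem_cons_self) (ih fun d hd => hw d (List.mem_cons_of_mem _ hd))

theorem ff_term (h : Checked D) {r s : ℕ} {c : ℕ × ℤ × ℕ × ℕ} (hc : c ∈ D.commTerms r s) :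
    c.1 < D.nroots ∧ 1 ≤ c.2.2.1 ∧ 1 ≤ c.2.2.2 ∧ ff D m c.1 = c.2.2.1 * ff D m r + c.2.2.2 * ff D m s := by
  obtain ⟨v, C, i, j⟩ := c
  obtain ⟨h1, -, -, h4, h5, h6⟩ := commTerms_rt h hc
  exact ⟨h1, h4, h5, ff_comb h6⟩

theorem comm_gen_mem (h : Checked D) {r s : ℕ} (hr : r < D.nroots) (hs : s < D.nroots) (hr1 : 1 ≤ ff D m r)
    (hs1 : 1 ≤ ff D m s) (t u : F) :
    ⁅xG hD s u, xG hD r t⁆ ∈ V hD F m (ff D m s + ff D m r) := by
  rw [comm_xG (m := m) h hr hs hr1 hs1]
  split_ifs with hsr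
  · exact one_mem _
  · refine wordG_mem fun c hc => ?_
    unfold ChevalleyDatum.commWord at hc
    obtain ⟨c', hc', rfl⟩ := List.mem_map.1 hc
    obtain ⟨h1, h2, h3, h4⟩ := ff_term (m := m) h hc'
    refine xG_mem_V h1 ?_ _
    show _ ≤ ff D m c'.1
    rw [h4]
    have e1 : (1 : ℤ) * ff D m r ≤ c'.2.2.1 * ff D m r :=
      mul_le_mul_of_nonneg_right (by exact_mod_cast h2) (by omega)
    have e2 : (1 : ℤ) * ff D m s ≤ c'.2.2.2 * ff D m s :=
      mul_le_mul_of_nonneg_right (by exact_mod_cast h3) (by omega)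
    omega

/-- `V 1` normalises `V e` -/
theorem V_conj (h : Checked D) {e : ℤ} (he : 1 ≤ e) {g x : GL D.Idx F} (hg : g ∈ V hD F m 1) (hx : x ∈ V hD F m e) :
    g * x * g⁻¹ ∈ V hD F m e := by
  have key : ∀ (r : ℕ) (t : F), r < D.nroots → 1 ≤ ff D m r → ∀ x ∈ V hD F m e,
      xG hD r t * x * (xG hD r t)⁻¹ ∈ V hD F m e := by
    intro r t hr hr1 x hx
    refine V_induction (P := fun x => xG hD r t * x * (xG hD r t)⁻¹ ∈ V hD F m e) ?_ ?_ hx
    · rw [mul_one, mul_inv_cancel]; exact one_mem _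
    · intro s u hs hs1 y _ ih
      have h1 := comm_gen_mem (hD := hD) (m := m) h hs hr (by omega) hr1 u t
      have h2 : xG hD r t * (xG hD s u * y) * (xG hD r t)⁻¹ =
          ⁅xG hD r t, xG hD s u⁆ * xG hD s u * (xG hD r t * y * (xG hD r t)⁻¹) := by
        rw [commutatorElement_def]; group
      rw [h2]
      exact mul_mem (mul_mem (V_anti (by omega) h1) (xG_mem_V hs hs1 u)) ih
  refine V_induction (P := fun g => ∀ x ∈ V hD F m e, g * x * g⁻¹ ∈ V hD F m e) ?_ ?_ hg x hx
  · intro x hx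
    rw [one_mul, inv_one, mul_one]; exact hx
  · intro r t hr hr1 g _ ih x hx
    have h2 : xG hD r t * g * x * (xG hD r t * g)⁻¹ = xG hD r t * (g * x * g⁻¹) * (xG hD r t)⁻¹ := by group
    rw [h2]
    exact key r t hr hr1 _ (ih x hx)

/-- `⁅V c, V d⁆ ≤ V (c + d)` -/
theorem V_comm (h : Checked D) {c d : ℤ} (hc : 1 ≤ c) (hd : 1 ≤ d) {a b : GL D.Idx F} (ha : a ∈ V hD F m c)
    (hb : b ∈ V hD F m d) : ⁅a, b⁆ ∈ V hD F m (c + d) := by
  have key : ∀ (r : ℕ) (t : F), r < D.nroots → c ≤ ff D m r → ∀ b ∈ V hD F m d,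
      ⁅xG hD r t, b⁆ ∈ V hD F m (c + d) := by
    intro r t hr hr1 b hb
    refine V_induction (P := fun b => ⁅xG hD r t, b⁆ ∈ V hD F m (c + d)) ?_ ?_ hb
    · rw [commutatorElement_one_right]; exact one_mem _
    · intro s u hs hs1 y _ ih
      have h1 := comm_gen_mem (hD := hD) (m := m) h hs hr (by omega) (by omega) u t
      have h2 : ⁅xG hD r t, xG hD s u * y⁆ =
          ⁅xG hD r t, xG hD s u⁆ * (xG hD s u * ⁅xG hD r t, y⁆ * (xG hD s u)⁻¹) := by
        rw [commutatorElement_def, commutatorElement_def, commutatorElement_def]; group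
      rw [h2]
      exact mul_mem (V_anti (by omega) h1) (V_conj h (by omega) (xG_mem_V hs (by omega) u) ih)
  refine V_induction (P := fun a => ⁅a, b⁆ ∈ V hD F m (c + d)) ?_ ?_ ha
  · rw [commutatorElement_one_left]; exact one_mem _
  · intro r t hr hr1 g _ ih
    have h2 : ⁅xG hD r t * g, b⁆ = (xG hD r t * ⁅g, b⁆ * (xG hD r t)⁻¹) * ⁅xG hD r t, b⁆ := by
      rw [commutatorElement_def, commutatorElement_def, commutatorElement_def]; group
    rw [h2]
    exact mul_mem (V_conj h (by omega) (xG_mem_V hr (by omega) t) ih) (key r t hr hr1 b hb)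

/-! ### coordinates -/

/-- a coordinate: the entry in row `h_i`, column `e_z` (`z = -r` for the coordinate at `r`) -/
def ka (i : Fin D.rank) (z : Fin D.nroots) (g : GL D.Idx F) : F :=
  (g : Matrix D.Idx D.Idx F) (Sum.inl i) (Sum.inr z)

theorem ka_one (i : Fin D.rank) (z : Fin D.nroots) : ka i z (1 : GL D.Idx F) = 0 := by
  unfold ka
  rw [Units.val_one, Matrix.one_apply_ne (by simp)]

theorem ka_mul {c : ℤ} (hc : 1 ≤ c) {i : Fin D.rank} {z : Fin D.nroots} (hz : ff D m z = - c) {g k : GL D.Idx F}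
    (hg : Dg D m c (g : Matrix D.Idx D.Idx F)) (hk : Dg D m c (k : Matrix D.Idx D.Idx F)) :
    ka i z (g * k) = ka i z g + ka i z k := by
  unfold ka
  rw [Units.val_mul, Matrix.mul_apply]
  have hzi : dg D m (Sum.inr z : D.Idx) = - c := hz
  have h1 : ∀ w : D.Idx, (g : Matrix D.Idx D.Idx F) (Sum.inl i) w * (k : Matrix D.Idx D.Idx F) w (Sum.inr z) =
      (if w = Sum.inl i then (k : Matrix D.Idx D.Idx F) (Sum.inl i) (Sum.inr z) else 0) +
      (if w = Sum.inr z then (g : Matrix D.Idx D.Idx F) (Sum.inl i) (Sum.inr z) else 0) := by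
    intro w
    by_cases h2 : w = Sum.inl i
    · subst h2
      rw [if_pos rfl, if_neg (by simp), add_zero, hg.eq (by omega), Matrix.one_apply_eq, one_mul]
    · rw [if_neg h2, zero_add]
      by_cases h3 : w = Sum.inr z
      · subst h3
        rw [if_pos rfl, hk.eq (by omega), Matrix.one_apply_eq, mul_one]
      · rw [if_neg h3]
        by_cases h4 : (g : Matrix D.Idx D.Idx F) (Sum.inl i) w = 0
        · rw [h4, zero_mul]
        · have h5 := hg (Sum.inl i) w (by rw [Matrix.one_apply_ne (Ne.symm h2)]; exact h4)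
          rw [dg_inl] at h5
          rw [hk.eq (by omega), Matrix.one_apply_ne h3, mul_zero]
  rw [Finset.sum_congr rfl fun w _ => h1 w, Finset.sum_add_distrib, Finset.sum_ite_eq', Finset.sum_ite_eq',
    if_pos (Finset.mem_univ _), if_pos (Finset.mem_univ _)]
  exact add_comm _ _

theorem ka_mul_V (h : Checked D) {c : ℤ} (hc : 1 ≤ c) {i : Fin D.rank} {z : Fin D.nroots} (hz : ff D m z = - c)
    {g k : GL D.Idx F} (hg : g ∈ V hD F m c) (hk : k ∈ V hD F m c) : ka i z (g * k) = ka i z g + ka i z k :=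
  ka_mul hc hz (V_dg h hc hg) (V_dg h hc hk)

theorem ka_eq_zero (h : Checked D) {c : ℤ} (hc : 1 ≤ c) {i : Fin D.rank} {z : Fin D.nroots} (hz : - ff D m z < c)
    {g : GL D.Idx F} (hg : g ∈ V hD F m c) : ka i z g = 0 := by
  unfold ka
  have h1 : dg D m (Sum.inr z : D.Idx) = ff D m z := rfl
  have h2 := dg_inl (D := D) (m := m) i
  rw [(V_dg h hc hg).eq (by omega), Matrix.one_apply_ne (by simp)]

/-- the coordinate of a root element -/
theorem ka_xG (h : Checked D) {r : ℕ} (hr : r < D.nroots) (i : Fin D.rank) (z : Fin D.nroots) (t : F) :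
    ka i z (xG hD r t) = if (z : ℕ) = D.neg r then (co D r i : F) * t else 0 := by
  unfold ka
  rw [coe_xG']
  split_ifs with hz
  · exact St.Functional.x_inl_neg hr t i z hz (by rw [hz]; exact neg_ne h hr)
  · exact St.Functional.x_inl_inr hr t i z hz

/-! ### the leading term of a commutator -/

theorem ka_conj (h : Checked D) {c : ℤ} (hc : 1 ≤ c) {i : Fin D.rank} {z : Fin D.nroots} (hz : ff D m z = - c)
    {g x : GL D.Idx F} (hg : g ∈ V hD F m 1) (hx : x ∈ V hD F m c) : ka i z (g * x * g⁻¹) = ka i z x := by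
  have h1 : g * x * g⁻¹ = ⁅g, x⁆ * x := by rw [commutatorElement_def]; group
  have h2 := V_comm h (by omega) hc hg hx
  rw [h1, ka_mul_V h hc hz (V_anti (by omega) h2) hx, ka_eq_zero h (by omega) (by omega) h2, zero_add]

theorem ka_comm_mul_left (h : Checked D) {c d : ℤ} (hc : 1 ≤ c) (hd : 1 ≤ d) {i : Fin D.rank} {z : Fin D.nroots}
    (hz : ff D m z = - (c + d)) {a a' b : GL D.Idx F} (ha : a ∈ V hD F m c) (ha' : a' ∈ V hD F m c)
    (hb : b ∈ V hD F m d) : ka i z ⁅a * a', b⁆ = ka i z ⁅a, b⁆ + ka i z ⁅a', b⁆ := by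
  have h1 : ⁅a * a', b⁆ = (a * ⁅a', b⁆ * a⁻¹) * ⁅a, b⁆ := by
    rw [commutatorElement_def, commutatorElement_def, commutatorElement_def]; group
  have h2 := V_comm h hc hd ha hb
  have h3 := V_comm h hc hd ha' hb
  have ha1 : a ∈ V hD F m 1 := V_anti hc ha
  rw [h1, ka_mul_V h (by omega) hz (V_conj h (by omega) ha1 h3) h2, ka_conj h (by omega) hz ha1 h3, add_comm]

theorem ka_comm_mul_right (h : Checked D) {c d : ℤ} (hc : 1 ≤ c) (hd : 1 ≤ d) {i : Fin D.rank} {z : Fin D.nroots}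
    (hz : ff D m z = - (c + d)) {a b b' : GL D.Idx F} (ha : a ∈ V hD F m c) (hb : b ∈ V hD F m d)
    (hb' : b' ∈ V hD F m d) : ka i z ⁅a, b * b'⁆ = ka i z ⁅a, b⁆ + ka i z ⁅a, b'⁆ := by
  have h1 : ⁅a, b * b'⁆ = ⁅a, b⁆ * (b * ⁅a, b'⁆ * b⁻¹) := by
    rw [commutatorElement_def, commutatorElement_def, commutatorElement_def]; group
  have h2 := V_comm h hc hd ha hb
  have h3 := V_comm h hc hd ha hb'
  have hb1 : b ∈ V hD F m 1 := V_anti hd hb
  rw [h1, ka_mul_V h (by omega) hz h2 (V_conj h (by omega) hb1 h3), ka_conj h (by omega) hz hb1 h3]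

/-- the sum of the constants of the terms of the commutator formula with root `k` -/
def csum (D : ChevalleyDatum) (s r k : ℕ) : ℤ := ((D.commTerms s r).map fun c => if c.1 = k then c.2.1 else 0).sum

theorem ka_word (h : Checked D) {c : ℤ} (hc : 1 ≤ c) {i : Fin D.rank} {z : Fin D.nroots} (hz : ff D m z = - c)
    {w : List (ℕ × F)} (hw : ∀ p ∈ w, p.1 < D.nroots ∧ c ≤ ff D m p.1) :
    wordG hD w ∈ V hD F m c ∧
    ka i z (wordG hD w) = (w.map fun p => if (z : ℕ) = D.neg p.1 then (co D p.1 i : F) * p.2 else 0).sum := by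
  induction w with
  | nil =>
    refine ⟨one_mem _, ?_⟩
    rw [wordG_nil, ka_one]; rfl
  | cons p w ih =>
    obtain ⟨h1, h2⟩ := ih fun q hq => hw q (List.mem_cons_of_mem _ hq)
    obtain ⟨h3, h4⟩ := hw p List.mem_cons_self
    have h5 := xG_mem_V (hD := hD) h3 h4 p.2
    rw [wordG_cons]
    refine ⟨mul_mem h5 h1, ?_⟩
    rw [ka_mul_V h hc hz h5 h1, h2, ka_xG h h3, List.map_cons, List.sum_cons]

/-- the coordinate at `k` of a commutator of two root elements -/
theorem ka_comm_gen (h : Checked D) {c d : ℤ} (hc : 1 ≤ c) (hd : 1 ≤ d) {i : Fin D.rank} {z : Fin D.nroots}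
    {k : ℕ} (hk : k < D.nroots) (hzk : (z : ℕ) = D.neg k) (hfk : ff D m k = c + d) {r s : ℕ} (hr : r < D.nroots)
    (hs : s < D.nroots) (hr1 : c ≤ ff D m r) (hs1 : d ≤ ff D m s) (t u : F) :
    ka i z ⁅xG hD r t, xG hD s u⁆ =
      if r = s then 0 else - ((csum D s r k : ℤ) : F) * (co D k i : F) * t * u := by
  have hz : ff D m z = - (c + d) := by rw [hzk, ff_neg h hk, hfk]
  rw [comm_xG (m := m) h hs hr (by omega) (by omega)]
  split_ifs with hrs
  · exact ka_one i z
  · have hw : ∀ p ∈ D.commWord F s r (-u) (-t), p.1 < D.nroots ∧ c + d ≤ ff D m p.1 := by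
      intro p hp
      unfold ChevalleyDatum.commWord at hp
      obtain ⟨c', hc', rfl⟩ := List.mem_map.1 hp
      obtain ⟨h1, h2, h3, h4⟩ := ff_term (m := m) h hc'
      refine ⟨h1, ?_⟩
      show c + d ≤ ff D m c'.1
      rw [h4]
      have e1 : (1 : ℤ) * ff D m s ≤ c'.2.2.1 * ff D m s :=
        mul_le_mul_of_nonneg_right (by exact_mod_cast h2) (by omega)
      have e2 : (1 : ℤ) * ff D m r ≤ c'.2.2.2 * ff D m r :=
        mul_le_mul_of_nonneg_right (by exact_mod_cast h3) (by omega)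
      omega
    rw [(ka_word (hD := hD) h (by omega) hz hw).2]
    unfold ChevalleyDatum.commWord
    rw [List.map_map]
    have hterm : ∀ c' ∈ D.commTerms s r, ((fun p : ℕ × F => if (z : ℕ) = D.neg p.1 then (co D p.1 i : F) * p.2 else 0) ∘
        fun c : ℕ × ℤ × ℕ × ℕ => (c.1, (c.2.1 : F) * (- -u) ^ c.2.2.1 * (-t) ^ c.2.2.2)) c' =
        (((if c'.1 = k then c'.2.1 else 0 : ℤ) : F)) * (-(co D k i : F) * t * u) := by
      intro c' hc'
      obtain ⟨h1, h2, h3, h4⟩ := ff_term (m := m) h hc'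
      rw [Function.comp_apply]
      show (if (z : ℕ) = D.neg c'.1 then (co D c'.1 i : F) * ((c'.2.1 : F) * (- -u) ^ c'.2.2.1 * (-t) ^ c'.2.2.2) else 0) = _
      by_cases hck : c'.1 = k
      · rw [if_pos (by rw [hck]; exact hzk), if_pos hck]
        rw [hck, hfk] at h4
        have e1 : ((c'.2.2.1 : ℤ) - 1) * ff D m s = c'.2.2.1 * ff D m s - ff D m s := by ring
        have e2 : ((c'.2.2.2 : ℤ) - 1) * ff D m r = c'.2.2.2 * ff D m r - ff D m r := by ring
        have e3 : 0 ≤ ((c'.2.2.1 : ℤ) - 1) * ff D m s := mul_nonneg (by omega) (by omega)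
        have e4 : 0 ≤ ((c'.2.2.2 : ℤ) - 1) * ff D m r := mul_nonneg (by omega) (by omega)
        have e5 : ((c'.2.2.1 : ℤ) - 1) * ff D m s = 0 := by omega
        have e6 : ((c'.2.2.2 : ℤ) - 1) * ff D m r = 0 := by omega
        have e7 : c'.2.2.1 = 1 := by
          rcases mul_eq_zero.1 e5 with h7 | h7
          · omega
          · omega
        have e8 : c'.2.2.2 = 1 := by
          rcases mul_eq_zero.1 e6 with h7 | h7
          · omega
          · omega
        rw [e7, e8, hck]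
        ring
      · rw [if_neg hck, if_neg]
        · push_cast; ring
        · intro h5
          apply hck
          exact (neg_inj h h1 hk (by rw [← h5, hzk]))
    rw [List.map_congr_left hterm]
    have e : csum D s r k = ((D.commTerms s r).map fun c => if c.1 = k then c.2.1 else 0).sum := rfl
    rw [e]
    generalize D.commTerms s r = L
    induction L with
    | nil => simp
    | cons a L ih =>
      rw [List.map_cons, List.sum_cons, ih, List.map_cons, List.sum_cons]
      push_cast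
      ring

end Cfsg.Agent.H332.Ab.Filt
end

-- part: H332/Ab/Chain
section
/-!
# Leading terms in a chain of subgroups (helper332)

`U` a descending chain of subgroups, `|U i : U (i+1)| ≤ q ^ w i`, `R i j`: an element with leading term at `i` never
commutes with an element with leading term at `j`.  An abelian subgroup `A ≤ U 0` has order at most
`q ^ (∑ i ∈ S, w i)`, where `S` (the set of leading positions) is independent for `R`; a matching `f` gives
`|A| ^ 2 ≤ q ^ (2 N - w(M))`.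
-/

set_option autoImplicit false

namespace Cfsg.Agent.H332.Ab

open Subgroup

variable {G : Type*} [Group G]

/-- the positions where the chain `A ⊓ U i` drops -/
noncomputable def drops (A : Subgroup G) (U : ℕ → Subgroup G) (n : ℕ) : Finset ℕ := by
  classical
  exact (Finset.range n).filter fun i => ¬ A ⊓ U i ≤ U (i + 1)

theorem mem_drops {A : Subgroup G} {U : ℕ → Subgroup G} {n i : ℕ} :
    i ∈ drops A U n ↔ i < n ∧ ¬ A ⊓ U i ≤ U (i + 1) := by
  classical
  rw [drops, Finset.mem_filter, Finset.mem_range]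

theorem drops_subset {A : Subgroup G} {U : ℕ → Subgroup G} {n : ℕ} : drops A U n ⊆ Finset.range n := by
  classical
  exact Finset.filter_subset _ _

theorem drops_succ {A : Subgroup G} {U : ℕ → Subgroup G} {n : ℕ} :
    (¬ A ⊓ U n ≤ U (n + 1) → drops A U (n + 1) = insert n (drops A U n)) ∧
    (A ⊓ U n ≤ U (n + 1) → drops A U (n + 1) = drops A U n) := by
  constructor
  · intro h
    ext i
    rw [Finset.mem_insert, mem_drops, mem_drops]
    constructor
    · rintro ⟨h1, h2⟩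
      rcases Nat.lt_succ_iff_lt_or_eq.1 h1 with h3 | h3
      · exact Or.inr ⟨h3, h2⟩
      · exact Or.inl h3
    · rintro (rfl | ⟨h1, h2⟩)
      · exact ⟨Nat.lt_succ_self _, h⟩
      · exact ⟨h1.trans (Nat.lt_succ_self _), h2⟩
  · intro h
    ext i
    rw [mem_drops, mem_drops]
    constructor
    · rintro ⟨h1, h2⟩
      rcases Nat.lt_succ_iff_lt_or_eq.1 h1 with h3 | h3
      · exact ⟨h3, h2⟩
      · subst h3; exact absurd h h2
    · rintro ⟨h1, h2⟩
      exact ⟨h1.trans (Nat.lt_succ_self _), h2⟩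

/-- `|A| ≤ q ^ (sum of the weights of the positions where the chain drops)` -/
theorem card_le_drops [Finite G] {U : ℕ → Subgroup G} {w : ℕ → ℕ} {q : ℕ} {A : Subgroup G} (hA : A ≤ U 0) (n : ℕ)
    (hU : ∀ i, i < n → U (i + 1) ≤ U i)
    (hi : ∀ i, i < n → ¬ A ⊓ U i ≤ U (i + 1) → (U (i + 1)).relIndex (A ⊓ U i) ≤ q ^ w i) (hn : U n = ⊥) :
    Nat.card A ≤ q ^ (∑ i ∈ drops A U n, w i) := by
  have key : ∀ k, k ≤ n → Nat.card A ≤ q ^ (∑ i ∈ drops A U k, w i) * Nat.card (A ⊓ U k : Subgroup G) := by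
    intro k
    induction k with
    | zero =>
      intro _
      have h0 : drops A U 0 = ∅ := by
        ext i; rw [mem_drops]; simp
      rw [h0, Finset.sum_empty, pow_zero, one_mul, inf_eq_left.2 hA]
    | succ k ih =>
      intro hk
      have h1 := ih (by omega)
      have h2 : (A ⊓ U (k + 1)).relIndex (A ⊓ U k) * Nat.card (A ⊓ U (k + 1) : Subgroup G) =
          Nat.card (A ⊓ U k : Subgroup G) := by
        rw [mul_comm]
        have hle : A ⊓ U (k + 1) ≤ A ⊓ U k := inf_le_inf_left _ (hU k (by omega))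
        have h3 := Subgroup.card_mul_index ((A ⊓ U (k + 1)).subgroupOf (A ⊓ U k))
        rw [Nat.card_congr (Subgroup.subgroupOfEquivOfLe hle).toEquiv] at h3
        exact h3
      have h4 : (A ⊓ U (k + 1)).relIndex (A ⊓ U k) = (U (k + 1)).relIndex (A ⊓ U k) := by
        rw [← Subgroup.inf_relIndex_right, ← Subgroup.inf_relIndex_right (U (k + 1))]
        congr 1
        apply le_antisymm
        · exact le_inf (inf_le_left.trans inf_le_right) inf_le_right
        · exact le_inf (le_inf (inf_le_right.trans inf_le_left) inf_le_left) inf_le_right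
      by_cases hd : A ⊓ U k ≤ U (k + 1)
      · rw [drops_succ.2 hd]
        have h5 : A ⊓ U (k + 1) = A ⊓ U k :=
          le_antisymm (inf_le_inf_left _ (hU k (by omega))) (le_inf inf_le_left hd)
        rw [h5]; exact h1
      · have hnot : k ∉ drops A U k := by rw [mem_drops]; omega
        rw [drops_succ.1 hd, Finset.sum_insert hnot, pow_add]
        have h6 := hi k (by omega) hd
        rw [← h4] at h6
        calc Nat.card A ≤ q ^ (∑ i ∈ drops A U k, w i) * Nat.card (A ⊓ U k : Subgroup G) := h1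
          _ = q ^ (∑ i ∈ drops A U k, w i) * ((A ⊓ U (k + 1)).relIndex (A ⊓ U k) *
              Nat.card (A ⊓ U (k + 1) : Subgroup G)) := by rw [h2]
          _ ≤ q ^ (∑ i ∈ drops A U k, w i) * (q ^ w k * Nat.card (A ⊓ U (k + 1) : Subgroup G)) :=
              Nat.mul_le_mul_left _ (Nat.mul_le_mul_right _ h6)
          _ = _ := by ring
  have h := key n le_rfl
  rw [hn, inf_bot_eq, Subgroup.card_bot, mul_one] at h
  exact h

/-- the weight of an independent set, by a matching in the double cover -/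
theorem two_mul_sum_le {n : ℕ} {S M : Finset ℕ} {w f : ℕ → ℕ} (hS : S ⊆ Finset.range n) (hM : M ⊆ Finset.range n)
    (hf : ∀ i ∈ M, f i < n) (hw : ∀ i ∈ M, w (f i) = w i) (hinj : Set.InjOn f M)
    (hind : ∀ i ∈ M, i ∈ S → f i ∉ S) :
    2 * ∑ i ∈ S, w i + ∑ i ∈ M, w i ≤ 2 * ∑ i ∈ Finset.range n, w i := by
  classical
  -- `w (S ∩ M) ≤ w (range n \ S)`
  have h1 : ∑ i ∈ S ∩ M, w i ≤ ∑ i ∈ Finset.range n \ S, w i := by
    have e1 : ∑ i ∈ S ∩ M, w i = ∑ i ∈ (S ∩ M).image f, w i := by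
      rw [Finset.sum_image]
      · exact Finset.sum_congr rfl fun i hi => (hw i (Finset.mem_inter.1 hi).2).symm
      · intro i hi j hj hij
        exact hinj (Finset.mem_inter.1 hi).2 (Finset.mem_inter.1 hj).2 hij
    rw [e1]
    apply Finset.sum_le_sum_of_subset
    intro j hj
    obtain ⟨i, hi, rfl⟩ := Finset.mem_image.1 hj
    obtain ⟨h2, h3⟩ := Finset.mem_inter.1 hi
    exact Finset.mem_sdiff.2 ⟨Finset.mem_range.2 (hf i h3), hind i h3 h2⟩
  have h2 : ∑ i ∈ S, w i + ∑ i ∈ Finset.range n \ S, w i = ∑ i ∈ Finset.range n, w i := by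
    rw [add_comm]; exact Finset.sum_sdiff hS
  have h3 : ∑ i ∈ S ∩ M, w i + ∑ i ∈ S \ M, w i = ∑ i ∈ S, w i := Finset.sum_inter_add_sum_sdiff S M w
  have h4 : ∑ i ∈ S \ M, w i ≤ ∑ i ∈ Finset.range n \ M, w i := by
    apply Finset.sum_le_sum_of_subset
    exact Finset.sdiff_subset_sdiff hS le_rfl
  have h5 : ∑ i ∈ Finset.range n \ M, w i + ∑ i ∈ M, w i = ∑ i ∈ Finset.range n, w i := Finset.sum_sdiff hM
  omega

/-- **Leading terms, weighted matching.** -/
theorem card_sq_le [Finite G] {U : ℕ → Subgroup G} {w : ℕ → ℕ} {q : ℕ} {A : Subgroup G} (hA : A ≤ U 0)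
    (hcomm : IsMulCommutative A) (n : ℕ) (hU : ∀ i, i < n → U (i + 1) ≤ U i)
    (hi : ∀ i, i < n → ¬ A ⊓ U i ≤ U (i + 1) → (U (i + 1)).relIndex (A ⊓ U i) ≤ q ^ w i) (hn : U n = ⊥)
    (hq : 1 ≤ q)
    {M : Finset ℕ} {f : ℕ → ℕ} (hM : ∀ i ∈ M, i < n ∧ f i < n ∧ w (f i) = w i) (hinj : Set.InjOn f M)
    (hR : ∀ i ∈ M, ∀ a ∈ A, a ∈ U i → a ∉ U (i + 1) → ∀ b ∈ A, b ∈ U (f i) → b ∉ U (f i + 1) → a * b ≠ b * a) :
    Nat.card A ^ 2 ≤ q ^ (2 * ∑ i ∈ Finset.range n, w i - ∑ i ∈ M, w i) ∧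
    Nat.card A ≤ q ^ ((2 * ∑ i ∈ Finset.range n, w i - ∑ i ∈ M, w i) / 2) := by
  have h1 := card_le_drops hA n hU hi hn
  have h2 := two_mul_sum_le (S := drops A U n) (M := M) (w := w) (f := f) drops_subset
    (fun i hi => Finset.mem_range.2 (hM i hi).1) (fun i hi => (hM i hi).2.1) (fun i hi => (hM i hi).2.2) hinj (by
      intro i hiM hiS hfS
      obtain ⟨-, h3⟩ := mem_drops.1 hiS
      obtain ⟨-, h4⟩ := mem_drops.1 hfS
      rw [SetLike.not_le_iff_exists] at h3 h4
      obtain ⟨a, ha, ha'⟩ := h3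
      obtain ⟨b, hb, hb'⟩ := h4
      refine hR i hiM a ha.1 ha.2 ha' b hb.1 hb.2 hb' ?_
      exact congrArg Subtype.val (hcomm.is_comm.comm ⟨a, ha.1⟩ ⟨b, hb.1⟩))
  refine ⟨?_, h1.trans (Nat.pow_le_pow_right hq (by omega))⟩
  calc Nat.card A ^ 2 ≤ (q ^ (∑ i ∈ drops A U n, w i)) ^ 2 := Nat.pow_le_pow_left h1 2
    _ = q ^ (2 * ∑ i ∈ drops A U n, w i) := by rw [← pow_mul]; ring_nf
    _ ≤ _ := Nat.pow_le_pow_right hq (by omega)

/-! ### branch and bound -/

/-- branch and bound for the weight of an independent set contained in the list: `bl` is the set of blocked vertices,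
`bud` the budget -/
def bb (adj w : ℕ → ℕ) : List ℕ → ℕ → ℕ → Bool
  | [], _, _ => true
  | v :: l, bl, bud =>
    if ((v :: l).map w).sum ≤ bud then true
    else if bl.testBit v then bb adj w l bl bud
    else Nat.ble (w v) bud && (bb adj w l bl bud && bb adj w l (bl ||| adj v) (bud - w v))

theorem bb_sound {adj w : ℕ → ℕ} {S : Finset ℕ} (hS : ∀ i ∈ S, ∀ j ∈ S, (adj i).testBit j = false) :
    ∀ (l : List ℕ) (bl bud : ℕ), (∀ j ∈ S, bl.testBit j = false) → bb adj w l bl bud = true →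
      ((l.filter fun v => v ∈ S).map w).sum ≤ bud := by
  classical
  intro l
  induction l with
  | nil => intro bl bud _ _; simp
  | cons v l ih =>
    intro bl bud hbl h
    unfold bb at h
    by_cases h1 : ((v :: l).map w).sum ≤ bud
    · refine le_trans ?_ h1
      exact ((List.filter_sublist (p := fun v => decide (v ∈ S)) (l := v :: l)).map w).sum_le_sum fun _ _ => Nat.zero_le _
    · rw [if_neg h1] at h
      by_cases h2 : bl.testBit v = true
      · rw [if_pos h2] at h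
        have h3 : v ∉ S := by
          intro h4
          rw [hbl v h4] at h2
          exact absurd h2 (by decide)
        rw [List.filter_cons_of_neg (by simpa using h3)]
        exact ih bl bud hbl h
      · rw [if_neg h2, Bool.and_eq_true, Bool.and_eq_true] at h
        obtain ⟨h3, h4, h5⟩ := h
        by_cases h6 : v ∈ S
        · rw [List.filter_cons_of_pos (by simpa using h6), List.map_cons, List.sum_cons]
          have h7 := ih (bl ||| adj v) (bud - w v) (by
            intro j hj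
            rw [Nat.testBit_or, hbl j hj, hS v h6 j hj]
            rfl) h5
          have h8 := Nat.le_of_ble_eq_true h3
          omega
        · rw [List.filter_cons_of_neg (by simpa using h6)]
          exact ih bl bud hbl h4

/-- **Leading terms, branch and bound.** -/
theorem card_le_of_bb [Finite G] {U : ℕ → Subgroup G} {w : ℕ → ℕ} {q : ℕ} {A : Subgroup G} (hA : A ≤ U 0)
    (hcomm : IsMulCommutative A) (n : ℕ) (hU : ∀ i, i < n → U (i + 1) ≤ U i)
    (hi : ∀ i, i < n → ¬ A ⊓ U i ≤ U (i + 1) → (U (i + 1)).relIndex (A ⊓ U i) ≤ q ^ w i) (hn : U n = ⊥)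
    (hq : 1 ≤ q) {adj : ℕ → ℕ} {l : List ℕ} {B : ℕ} (hl : l.Nodup)
    (hln : ∀ i, i < n → w i ≠ 0 → i ∈ l) (hbb : bb adj w l 0 B = true)
    (hR : ∀ i, i < n → ∀ j, j < n → (adj i).testBit j = true → ∀ a ∈ A, a ∈ U i → a ∉ U (i + 1) →
      ∀ b ∈ A, b ∈ U j → b ∉ U (j + 1) → a * b ≠ b * a) :
    Nat.card A ≤ q ^ B := by
  classical
  refine (card_le_drops hA n hU hi hn).trans (Nat.pow_le_pow_right hq ?_)
  have h1 := bb_sound (adj := adj) (w := w) (S := drops A U n) (by
    intro i hi j hj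
    by_contra h2
    rw [Bool.not_eq_false] at h2
    obtain ⟨h3, h4⟩ := mem_drops.1 hi
    obtain ⟨h5, h6⟩ := mem_drops.1 hj
    rw [SetLike.not_le_iff_exists] at h4 h6
    obtain ⟨a, ha, ha'⟩ := h4
    obtain ⟨b, hb, hb'⟩ := h6
    refine hR i h3 j h5 h2 a ha.1 ha.2 ha' b hb.1 hb.2 hb' ?_
    exact congrArg Subtype.val (hcomm.is_comm.comm ⟨a, ha.1⟩ ⟨b, hb.1⟩)) l 0 B (by simp) hbb
  refine le_trans ?_ h1
  have h2 : ((l.filter fun v => v ∈ drops A U n).map w).sum = ∑ i ∈ (l.filter fun v => v ∈ drops A U n).toFinset, w i := by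
    rw [List.sum_toFinset _ (hl.filter _)]
  rw [h2]
  rw [← Finset.sum_filter_ne_zero]
  apply Finset.sum_le_sum_of_subset
  intro i hi
  rw [Finset.mem_filter] at hi
  rw [List.mem_toFinset, List.mem_filter]
  exact ⟨hln i (mem_drops.1 hi.1).1 hi.2, by simpa using hi.1⟩

end Cfsg.Agent.H332.Ab
end

-- part: H332/Ab/Lead
section
/-!
# Leading terms of commuting unipotent elements (helper332)
-/

set_option autoImplicit false

namespace Cfsg.Agent.H332.Ab.Filt

open Cfsg.Lie Cfsg.Agent.ChevalleyStructure Cfsg.Agent.ChevalleyStructure.Elts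
  Cfsg.Agent.ChevalleyStructure.RootVec Cfsg.Agent.ChevalleyStructure.RootVecTab
  Cfsg.Agent.ChevalleyStructure.RootSupport
open scoped commutatorElement

universe u

variable {D : ChevalleyDatum} {F : Type u} [Field F] {m : ℕ → ℤ} {hD : InList D}

theorem csum_eq_zero {s r k : ℕ} (h : ∀ c ∈ D.commTerms s r, c.1 ≠ k) : csum D s r k = 0 := by
  unfold csum
  rw [List.map_congr_left (g := fun _ => (0 : ℤ)) fun c hc => if_neg (h c hc)]
  simp

theorem csum_eq_zero_of_lt (h : Checked D) {c d : ℤ} {r s k : ℕ} (hfk : ff D m k = c + d)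
    (hc : 1 ≤ c) (hd : 1 ≤ d) (hr1 : c ≤ ff D m r) (hs1 : d ≤ ff D m s) (hne : ¬ (ff D m r = c ∧ ff D m s = d)) :
    csum D s r k = 0 := by
  apply csum_eq_zero
  intro c' hc' hck
  obtain ⟨h1, h2, h3, h4⟩ := ff_term (m := m) h hc'
  rw [hck, hfk] at h4
  have e1 : (1 : ℤ) * ff D m s ≤ c'.2.2.1 * ff D m s :=
    mul_le_mul_of_nonneg_right (by exact_mod_cast h2) (by omega)
  have e2 : (1 : ℤ) * ff D m r ≤ c'.2.2.2 * ff D m r :=
    mul_le_mul_of_nonneg_right (by exact_mod_cast h3) (by omega)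
  omega

/-- the data of a pair of levels at which commuting is impossible -/
structure Good (D : ChevalleyDatum) (F : Type u) [Field F] (m : ℕ → ℤ) (c d : ℤ) (r s k : ℕ) : Prop where
  hr : r < D.nroots
  hs : s < D.nroots
  hk : k < D.nroots
  fr : ff D m r = c
  fs : ff D m s = d
  fk : ff D m k = c + d
  ne : r ≠ s
  csum_ne : ((csum D s r k : ℤ) : F) ≠ 0
  uniq : ∀ r' s', r' < D.nroots → s' < D.nroots → ff D m r' = c → ff D m s' = d → r' ≠ s' →
    ((csum D s' r' k : ℤ) : F) ≠ 0 → r' = r ∧ s' = s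

/-- **The leading term of a commutator.** -/
theorem ka_comm (h : Checked D) {c d : ℤ} (hc : 1 ≤ c) (hd : 1 ≤ d) {r s k : ℕ} (Gd : Good D F m c d r s k)
    {i i1 i2 : Fin D.rank} {z z1 z2 : Fin D.nroots} (hz : (z : ℕ) = D.neg k) (hz1 : (z1 : ℕ) = D.neg r)
    (hz2 : (z2 : ℕ) = D.neg s) {a b : GL D.Idx F} (ha : a ∈ V hD F m c) (hb : b ∈ V hD F m d) :
    (co D r i1 : F) * (co D s i2 : F) * ka i z ⁅a, b⁆ =
      - ((csum D s r k : ℤ) : F) * (co D k i : F) * (ka i1 z1 a * ka i2 z2 b) := by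
  have hfz : ff D m z = - (c + d) := by rw [hz, ff_neg h Gd.hk, Gd.fk]
  have hfz1 : ff D m z1 = - c := by rw [hz1, ff_neg h Gd.hr, Gd.fr]
  have hfz2 : ff D m z2 = - d := by rw [hz2, ff_neg h Gd.hs, Gd.fs]
  -- two generators
  have gen : ∀ (r' : ℕ) (t : F), r' < D.nroots → c ≤ ff D m r' → ∀ (s' : ℕ) (u : F), s' < D.nroots → d ≤ ff D m s' →
      (co D r i1 : F) * (co D s i2 : F) * ka i z ⁅xG hD r' t, xG hD s' u⁆ =
      - ((csum D s r k : ℤ) : F) * (co D k i : F) * (ka i1 z1 (xG hD r' t) * ka i2 z2 (xG hD s' u)) := by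
    intro r' t hr' hr1 s' u hs' hs1
    rw [ka_comm_gen h hc hd Gd.hk hz Gd.fk hr' hs' hr1 hs1, ka_xG h hr', ka_xG h hs']
    have e1 : ((z1 : ℕ) = D.neg r') ↔ r = r' := by
      rw [hz1]
      exact ⟨fun h1 => neg_inj h Gd.hr hr' h1, fun h1 => by rw [h1]⟩
    have e2 : ((z2 : ℕ) = D.neg s') ↔ s = s' := by
      rw [hz2]
      exact ⟨fun h1 => neg_inj h Gd.hs hs' h1, fun h1 => by rw [h1]⟩
    simp only [e1, e2]
    by_cases hrs : r' = s'
    · rw [if_pos hrs]
      have : ¬ (r = r' ∧ s = s') := by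
        rintro ⟨h1, h2⟩
        exact Gd.ne (by rw [h1, h2, hrs])
      by_cases h1 : r = r'
      · rw [if_neg (c := s = s') (fun h2 => this ⟨h1, h2⟩)]; ring
      · rw [if_neg h1]; ring
    · rw [if_neg hrs]
      by_cases h1 : r = r' ∧ s = s'
      · obtain ⟨rfl, rfl⟩ := h1
        rw [if_pos rfl, if_pos rfl]; ring
      · have h2 : ((csum D s' r' k : ℤ) : F) = 0 := by
          by_contra h3
          by_cases h4 : ff D m r' = c ∧ ff D m s' = d
          · obtain ⟨h5, h6⟩ := Gd.uniq r' s' hr' hs' h4.1 h4.2 hrs h3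
            exact h1 ⟨h5.symm, h6.symm⟩
          · apply h3
            rw [csum_eq_zero_of_lt h Gd.fk hc hd hr1 hs1 h4, Int.cast_zero]
        rw [h2]
        by_cases h3 : r = r'
        · rw [if_neg (c := s = s') (fun h4 => h1 ⟨h3, h4⟩)]; ring
        · rw [if_neg h3]; ring
  have key : ∀ (r' : ℕ) (t : F), r' < D.nroots → c ≤ ff D m r' → ∀ b ∈ V hD F m d,
      (co D r i1 : F) * (co D s i2 : F) * ka i z ⁅xG hD r' t, b⁆ =
      - ((csum D s r k : ℤ) : F) * (co D k i : F) * (ka i1 z1 (xG hD r' t) * ka i2 z2 b) := by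
    intro r' t hr' hr1 b hb
    have hx := xG_mem_V (hD := hD) hr' hr1 t
    refine V_induction (P := fun b => (co D r i1 : F) * (co D s i2 : F) * ka i z ⁅xG hD r' t, b⁆ =
      - ((csum D s r k : ℤ) : F) * (co D k i : F) * (ka i1 z1 (xG hD r' t) * ka i2 z2 b)) ?_ ?_ hb
    · rw [commutatorElement_one_right, ka_one, ka_one]; ring
    · intro s' u hs' hs1 y hy ih
      have hy' := xG_mem_V (hD := hD) hs' hs1 u
      rw [ka_comm_mul_right h hc hd hfz hx hy' hy, ka_mul_V h hd hfz2 hy' hy, mul_add, ih,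
        gen r' t hr' hr1 s' u hs' hs1]
      ring
  refine V_induction (P := fun a => (co D r i1 : F) * (co D s i2 : F) * ka i z ⁅a, b⁆ =
      - ((csum D s r k : ℤ) : F) * (co D k i : F) * (ka i1 z1 a * ka i2 z2 b)) ?_ ?_ ha
  · rw [commutatorElement_one_left, ka_one, ka_one]; ring
  · intro r' t hr' hr1 y hy ih
    have hx := xG_mem_V (hD := hD) hr' hr1 t
    rw [ka_comm_mul_left h hc hd hfz hx hy hb, ka_mul_V h hc hfz1 hx hy, mul_add, ih, key r' t hr' hr1 b hb]
    ring

/-- some coordinate of the coroot is nonzero in the field -/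
theorem exists_co_ne (hD : InList D) (F : Type u) [Field F] {r : ℕ} (hr : r < D.nroots) :
    ∃ i : Fin D.rank, (co D r i : F) ≠ 0 := CorootGcd.exists_coroot_ne_zero hD hr

/-- elements with nonzero leading coordinates at a good pair of levels do not commute -/
theorem not_comm (h : Checked D) {c d : ℤ} (hc : 1 ≤ c) (hd : 1 ≤ d) {r s k : ℕ} (Gd : Good D F m c d r s k)
    {i1 i2 : Fin D.rank} {z1 z2 : Fin D.nroots} (hz1 : (z1 : ℕ) = D.neg r)
    (hz2 : (z2 : ℕ) = D.neg s) {a b : GL D.Idx F} (ha : a ∈ V hD F m c) (hb : b ∈ V hD F m d)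
    (ha0 : ka i1 z1 a ≠ 0) (hb0 : ka i2 z2 b ≠ 0) : a * b ≠ b * a := by
  intro hab
  obtain ⟨i, hi⟩ := exists_co_ne hD F Gd.hk
  have h1 := ka_comm h hc hd Gd (i := i) (i1 := i1) (i2 := i2) (z := ⟨D.neg k, neg_lt h Gd.hk⟩) rfl hz1 hz2 ha hb
  rw [commutatorElement_eq_one_iff_mul_comm.2 hab, ka_one, mul_zero] at h1
  have h2 := mul_ne_zero (mul_ne_zero (neg_ne_zero.2 Gd.csum_ne) hi) (mul_ne_zero ha0 hb0)
  exact h2 h1.symm

/-! ### one root at a level -/

/-- elements of `V c`, if `r` is the only root at the level `c` -/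
theorem exists_decomp (h : Checked D) {c c' : ℤ} (hc : 1 ≤ c) (hcc : c < c') {r : ℕ} (hr : r < D.nroots)
    (hfr : ff D m r = c) (hlev : ∀ s < D.nroots, c ≤ ff D m s → s = r ∨ c' ≤ ff D m s) {a : GL D.Idx F}
    (ha : a ∈ V hD F m c) : ∃ t : F, ∃ a' ∈ V hD F m c', a = xG hD r t * a' := by
  refine V_induction (P := fun a => ∃ t : F, ∃ a' ∈ V hD F m c', a = xG hD r t * a') ?_ ?_ ha
  · exact ⟨0, 1, one_mem _, by rw [xG_zero, mul_one]⟩
  · rintro s u hs hs1 y - ⟨t, a', ha', rfl⟩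
    rcases hlev s hs hs1 with rfl | h1
    · exact ⟨u + t, a', ha', by rw [← mul_assoc, xG_add]⟩
    · refine ⟨t, ((xG hD r t)⁻¹ * xG hD s u * (xG hD r t)⁻¹⁻¹) * a', mul_mem ?_ ha', by group⟩
      exact V_conj h (by omega) (inv_mem (xG_mem_V hr (by omega) t)) (xG_mem_V hs h1 u)

/-- the coordinate at `r` determines the class modulo the next level -/
theorem mem_next (h : Checked D) {c c' : ℤ} (hc : 1 ≤ c) (hcc : c < c') {r : ℕ} (hr : r < D.nroots)
    (hfr : ff D m r = c) (hlev : ∀ s < D.nroots, c ≤ ff D m s → s = r ∨ c' ≤ ff D m s) {i : Fin D.rank}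
    {z : Fin D.nroots} (hi : (co D r i : F) ≠ 0) (hz : (z : ℕ) = D.neg r) {a : GL D.Idx F}
    (ha : a ∈ V hD F m c) (h0 : ka i z a = 0) : a ∈ V hD F m c' := by
  obtain ⟨t, a', ha', rfl⟩ := exists_decomp h hc hcc hr hfr hlev ha
  have hz' : ff D m z = - c := by rw [hz, ff_neg h hr, hfr]
  rw [ka_mul_V h hc hz' (xG_mem_V hr (by omega) t) (V_anti (by omega) ha'), ka_xG h hr, if_pos hz,
    ka_eq_zero h (by omega) (by omega) ha', add_zero] at h0
  have ht : t = 0 := by
    rcases mul_eq_zero.1 h0 with h1 | h1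
    · exact absurd h1 hi
    · exact h1
  rw [ht, xG_zero, one_mul]
  exact ha'

/-- a bound for the index of a subgroup by the number of values of a function constant on right cosets only -/
theorem relIndex_le_of_inj {G : Type*} [Group G] {X : Type*} [Finite X] {H K : Subgroup G} (φ : G → X)
    (hφ : ∀ a ∈ K, ∀ b ∈ K, φ a = φ b → a⁻¹ * b ∈ H) : H.relIndex K ≤ Nat.card X := by
  classical
  rw [Subgroup.relIndex, Subgroup.index]
  let ψ : (K ⧸ H.subgroupOf K) → X := fun x => φ (Quotient.out x : K)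
  refine Nat.card_le_card_of_injective ψ ?_
  intro x y hxy
  have h1 := hφ _ (Quotient.out x).2 _ (Quotient.out y).2 hxy
  have h2 : (QuotientGroup.mk (Quotient.out x) : K ⧸ H.subgroupOf K) = QuotientGroup.mk (Quotient.out y) := by
    rw [QuotientGroup.eq, Subgroup.mem_subgroupOf]
    exact h1
  rwa [QuotientGroup.out_eq', QuotientGroup.out_eq'] at h2

theorem ka_inv (h : Checked D) {c : ℤ} (hc : 1 ≤ c) {i : Fin D.rank} {z : Fin D.nroots} (hz : ff D m z = - c)
    {g : GL D.Idx F} (hg : g ∈ V hD F m c) : ka i z g⁻¹ = - ka i z g := by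
  have h1 := ka_mul_V h hc hz (inv_mem hg) hg (i := i)
  rw [inv_mul_cancel, ka_one] at h1
  exact eq_neg_of_add_eq_zero_left h1.symm

/-! ### the lexicographic functional -/

/-- the functional whose values are ordered as the indices of the roots -/
def mm (D : ChevalleyDatum) (a : ℕ) : ℤ := 64 ^ (D.rank - 1 - a)

theorem sum_dig (c l : ℕ) : ∑ j ∈ Finset.range l, 64 ^ j * dig c j = c % 64 ^ l := by
  induction l with
  | zero => rw [Finset.range_zero, Finset.sum_empty, pow_zero, Nat.mod_one]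
  | succ l ih =>
    rw [Finset.sum_range_succ, ih, dig_eq, pow_succ, Nat.mod_mul]

theorem ff_mm (h : Checked D) {r : ℕ} (hr : r < D.nroots) : ff D (mm D) r = (code D r : ℤ) - (offs D % 64 ^ D.rank : ℕ) := by
  have h1 : ff D (mm D) r = ∑ a ∈ Finset.range D.rank, (64 : ℤ) ^ (D.rank - 1 - a) *
      ((dig (code D r) (D.rank - 1 - a) : ℤ) - (dig (offs D) (D.rank - 1 - a) : ℤ)) := by
    unfold ff
    refine Finset.sum_congr rfl fun a ha => ?_
    rw [Finset.mem_range] at ha
    rw [rt_of_lt hr ha, dig_offs h (by omega)]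
    rfl
  rw [h1, Finset.sum_range_reflect (fun j => (64 : ℤ) ^ j * ((dig (code D r) j : ℤ) - (dig (offs D) j : ℤ)))]
  have h2 := sum_dig (code D r) D.rank
  have h3 := sum_dig (offs D) D.rank
  rw [Nat.mod_eq_of_lt (code_lt (D := D) r)] at h2
  have h2' : ((code D r : ℕ) : ℤ) = ∑ j ∈ Finset.range D.rank, (64 : ℤ) ^ j * (dig (code D r) j : ℤ) := by
    have := congrArg (Nat.cast : ℕ → ℤ) h2
    push_cast at this
    exact this.symm
  have h3' : ((offs D % 64 ^ D.rank : ℕ) : ℤ) = ∑ j ∈ Finset.range D.rank, (64 : ℤ) ^ j * (dig (offs D) j : ℤ) := by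
    have := congrArg (Nat.cast : ℕ → ℤ) h3
    push_cast at this ⊢
    exact this.symm
  rw [h2', h3', ← Finset.sum_sub_distrib]
  exact Finset.sum_congr rfl fun j _ => by ring

theorem ff_mm_lt_iff (h : Checked D) {r s : ℕ} (hr : r < D.nroots) (hs : s < D.nroots) :
    ff D (mm D) r < ff D (mm D) s ↔ r < s := by
  rw [ff_mm h hr, ff_mm h hs, ← code_lt_iff h hr hs]
  omega

theorem ff_mm_pos_iff (h : Checked D) {r : ℕ} (hr : r < D.nroots) : 1 ≤ ff D (mm D) r ↔ D.nroots / 2 ≤ r := by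
  have h1 := ff_neg (m := mm D) h hr
  have h2 := ff_mm_lt_iff h (neg_lt h hr) hr
  have h4 := neg_add h hr
  have h5 := neg_ne h hr
  rw [h1] at h2
  constructor
  · intro h6
    have := h2.1 (by omega)
    omega
  · intro h6
    have := h2.2 (by omega)
    omega

end Cfsg.Agent.H332.Ab.Filt
end

-- part: H332/Ab/Unip
section
/-!
# Abelian unipotent subgroups of the Chevalley groups (helper332)

A matching certificate (`g`, `g'` lists of indices) gives `|A| ^ 2 ≤ q ^ (2 N - |M|)` for every abelian subgroup `A` of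
the unipotent group `U`.
-/

set_option autoImplicit false

namespace Cfsg.Agent.H332.Ab.Filt

open Cfsg.Lie Cfsg.Agent.ChevalleyStructure Cfsg.Agent.ChevalleyStructure.Elts
  Cfsg.Agent.ChevalleyStructure.RootVec Cfsg.Agent.ChevalleyStructure.RootVecTab
  Cfsg.Agent.ChevalleyStructure.RootSupport
open scoped commutatorElement

universe u

variable {D : ChevalleyDatum} {F : Type u} [Field F] {hD : InList D}

/-- the sum of the roots `r` and `s` is a root, with structure constant `±1` -/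
def chk (D : ChevalleyDatum) (r s : ℕ) : Bool :=
  match D.commTerms s r with
  | [] => false
  | c :: cs => (c.2.1 == 1 || c.2.1 == -1) && (c.2.2.1 == 1 && (c.2.2.2 == 1 && cs.all fun c' => c'.1 != c.1))

theorem chk_sound {r s : ℕ} (h : chk D r s = true) :
    ∃ k, (∃ c ∈ D.commTerms s r, c.1 = k ∧ c.2.2.1 = 1 ∧ c.2.2.2 = 1) ∧ (csum D s r k = 1 ∨ csum D s r k = -1) := by
  unfold chk at h
  unfold csum
  cases hL : D.commTerms s r with
  | nil => rw [hL] at h; exact absurd h (by simp)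
  | cons c cs =>
    rw [hL] at h
    simp only [Bool.and_eq_true, Bool.or_eq_true, beq_iff_eq, List.all_eq_true, bne_iff_ne] at h
    obtain ⟨h1, h2, h3, h4⟩ := h
    refine ⟨c.1, ⟨c, List.mem_cons_self, rfl, h2, h3⟩, ?_⟩
    have h5 : (cs.map fun c' => if c'.1 = c.1 then c'.2.1 else 0).sum = 0 := by
      rw [List.map_congr_left (g := fun _ => (0 : ℤ)) fun c' hc' => if_neg (h4 c' hc')]
      simp
    rw [List.map_cons, List.sum_cons, if_pos rfl, h5, add_zero]
    exact h1

theorem good_of_chk (h : Checked D) {r s : ℕ} (hr : r < D.nroots) (hs : s < D.nroots) (hne : r ≠ s)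
    (hc : chk D r s = true) : ∃ k, Good D F (mm D) (ff D (mm D) r) (ff D (mm D) s) r s k := by
  obtain ⟨k, ⟨c, hc1, rfl, hc2, hc3⟩, hcs⟩ := chk_sound hc
  obtain ⟨h1, -, -, h4⟩ := ff_term (m := mm D) h hc1
  rw [hc2, hc3] at h4
  refine ⟨c.1, hr, hs, h1, rfl, rfl, by rw [h4]; push_cast; ring, hne, ?_, ?_⟩
  · rcases hcs with h5 | h5 <;> rw [h5]
    · rw [Int.cast_one]; exact one_ne_zero
    · rw [Int.cast_neg, Int.cast_one]; exact neg_ne_zero.2 one_ne_zero
  · intro r' s' hr' hs' hfr hfs _ _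
    refine ⟨?_, ?_⟩
    · have e1 := ff_mm_lt_iff h hr' hr
      have e2 := ff_mm_lt_iff h hr hr'
      omega
    · have e1 := ff_mm_lt_iff h hs' hs
      have e2 := ff_mm_lt_iff h hs hs'
      omega

/-- the levels of the chain -/
def lev (D : ChevalleyDatum) (n i : ℕ) : ℤ := if i < n then ff D (mm D) (n + i) else ff D (mm D) (2 * n - 1) + 1

theorem lev_of_lt {n i : ℕ} (hi : i < n) : lev D n i = ff D (mm D) (n + i) := if_pos hi

theorem lev_pos (h : Checked D) {n : ℕ} (hn : D.nroots = 2 * n) (hn0 : 0 < n) (i : ℕ) : 1 ≤ lev D n i := by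
  unfold lev
  split_ifs with hi
  · exact (ff_mm_pos_iff h (by omega)).2 (by omega)
  · have := (ff_mm_pos_iff h (r := 2 * n - 1) (by omega)).2 (by omega)
    omega

theorem lev_lt (h : Checked D) {n : ℕ} (hn : D.nroots = 2 * n) {i : ℕ} (hi : i < n) :
    lev D n i < lev D n (i + 1) := by
  rw [lev_of_lt hi]
  unfold lev
  split_ifs with h1
  · exact (ff_mm_lt_iff h (by omega) (by omega)).2 (by omega)
  · have : n + i = 2 * n - 1 := by omega
    rw [this]; omega

theorem lev_next (h : Checked D) {n : ℕ} (hn : D.nroots = 2 * n) {i : ℕ} (hi : i < n) {s : ℕ} (hs : s < D.nroots)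
    (hle : lev D n i ≤ ff D (mm D) s) : s = n + i ∨ lev D n (i + 1) ≤ ff D (mm D) s := by
  rw [lev_of_lt hi] at hle
  by_cases hsi : s = n + i
  · exact Or.inl hsi
  · right
    have h1 : n + i < s := by
      have e1 := ff_mm_lt_iff h hs (s := n + i) (by omega)
      omega
    have h2 : i + 1 < n := by omega
    rw [lev_of_lt h2]
    by_cases h3 : n + (i + 1) = s
    · rw [h3]
    · exact ((ff_mm_lt_iff h (by omega) hs).2 (by omega)).le

theorem pos_le_V (h : Checked D) {n : ℕ} (hn : D.nroots = 2 * n) (hn0 : 0 < n) :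
    D.posUnipotent F ≤ V hD F (mm D) (lev D n 0) := by
  rw [posUnipotent_le_iff hD]
  intro r hr t
  have h1 : n ≤ r := by
    have := (isPosRoot_iff_index h hr.1).1 hr
    have := neg_add h hr.1
    omega
  refine xG_mem_V hr.1 ?_ t
  rw [lev_of_lt hn0]
  by_cases h2 : n + 0 = r
  · rw [h2]
  · exact ((ff_mm_lt_iff h (by have := hr.1; omega) hr.1).2 (by omega)).le

/-- **Abelian unipotent subgroups, from a matching.** -/
theorem card_sq_le_of_matching [Finite F] (hD : InList D) {n : ℕ} (hn : D.nroots = 2 * n) (hn0 : 0 < n)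
    {M : Finset ℕ} {g g' : ℕ → ℕ}
    (hM : ∀ i ∈ M, i < n ∧ g i < n ∧ g i ≠ i ∧ chk D (n + i) (n + g i) = true ∧ g' (g i) = i)
    {A : Subgroup (GL D.Idx F)} (hA : A ≤ D.posUnipotent F) (hcomm : IsMulCommutative A) :
    Nat.card A ^ 2 ≤ Nat.card F ^ (2 * n - M.card) ∧ Nat.card A ≤ Nat.card F ^ ((2 * n - M.card) / 2) := by
  have h := checked_of_mem hD
  have hpos := lev_pos h hn hn0
  have hfin : Finite (GL D.Idx F) := inferInstance
  have key : ∀ i, (hi : i < n) → ∀ a ∈ V hD F (mm D) (lev D n i), a ∉ V hD F (mm D) (lev D n (i + 1)) →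
      ∃ (i0 : Fin D.rank), ka i0 ⟨D.neg (n + i), neg_lt h (hn ▸ (by omega : n + i < 2 * n))⟩ a ≠ 0 := by
    intro i hi a ha ha'
    obtain ⟨i0, hi0⟩ := exists_co_ne hD F (r := n + i) (by omega)
    refine ⟨i0, fun h0 => ha' ?_⟩
    exact mem_next h (hpos i) (lev_lt h hn hi) (by omega) (lev_of_lt hi).symm
      (fun s hs hle => lev_next h hn hi hs hle) hi0 rfl ha h0
  have h1 := card_sq_le (U := fun i => V hD F (mm D) (lev D n i)) (w := fun _ => 1) (q := Nat.card F) (A := A)
    (hA.trans (pos_le_V h hn hn0)) hcomm n (fun i hi => V_anti (lev_lt h hn hi).le) (by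
      intro i hi _
      rw [pow_one]
      obtain ⟨i0, hi0⟩ := exists_co_ne hD F (r := n + i) (by omega)
      refine relIndex_le_of_inj (X := F) (φ := ka i0 ⟨D.neg (n + i), neg_lt h (by omega)⟩) ?_
      intro a ha b hb hab
      have hz : ff D (mm D) (D.neg (n + i)) = - lev D n i := by rw [ff_neg h (by omega), lev_of_lt hi]
      refine mem_next h (hpos i) (lev_lt h hn hi) (r := n + i) (z := ⟨D.neg (n + i), neg_lt h (by omega)⟩)
        (by omega) (lev_of_lt hi).symm
        (fun s hs hle => lev_next h hn hi hs hle) hi0 rfl (mul_mem (inv_mem ha.2) hb.2) ?_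
      rw [ka_mul_V h (hpos i) hz (inv_mem ha.2) hb.2, ka_inv h (hpos i) hz ha.2, hab, neg_add_cancel]) (by
      apply V_eq_bot
      intro r hr
      have e1 : lev D n n = ff D (mm D) (2 * n - 1) + 1 := by unfold lev; rw [if_neg (lt_irrefl n)]
      have e2 := ff_mm_lt_iff h (r := 2 * n - 1) (by omega) hr
      show ff D (mm D) r < lev D n n
      rw [e1]
      omega) Nat.card_pos (M := M) (f := g) (fun i hi => ⟨(hM i hi).1, (hM i hi).2.1, rfl⟩) (by
      intro i hi j hj hij
      rw [← (hM i hi).2.2.2.2, ← (hM j hj).2.2.2.2, hij]) (by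
      intro i hi a _ haU haU' b _ hbU hbU'
      obtain ⟨h2, h3, h4, h5, -⟩ := hM i hi
      obtain ⟨k, Gd⟩ := good_of_chk (F := F) h (r := n + i) (s := n + g i) (by omega) (by omega) (by omega) h5
      obtain ⟨i1, hi1⟩ := key i h2 a haU haU'
      obtain ⟨i2, hi2⟩ := key (g i) h3 b hbU hbU'
      rw [lev_of_lt h2] at haU
      rw [lev_of_lt h3] at hbU
      refine not_comm h ?_ ?_ Gd rfl rfl haU hbU hi1 hi2
      · have := hpos i; rwa [lev_of_lt h2] at this
      · have := hpos (g i); rwa [lev_of_lt h3] at this)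
  simp only [Finset.sum_const, Finset.card_range, smul_eq_mul, mul_one] at h1
  exact h1

/-- a certificate for a matching -/
def certOK (D : ChevalleyDatum) (n : ℕ) (L L' : List ℕ) : Bool :=
  D.nroots == 2 * n && ((List.range n).all fun i => !(Nat.blt (L.getD i n) n) ||
    (Nat.blt (L.getD i n) n && (L.getD i n != i && (chk D (n + i) (n + L.getD i n) && L'.getD (L.getD i n) n == i))))

/-- **Abelian unipotent subgroups, from a certificate.** -/
theorem card_sq_le_of_cert [Finite F] (hD : InList D) {n : ℕ} (hn0 : 0 < n) {L L' : List ℕ} {k : ℕ}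
    (hc : certOK D n L L' = true) (hk : ((List.range n).filter fun i => Nat.blt (L.getD i n) n).length = k)
    {A : Subgroup (GL D.Idx F)} (hA : A ≤ D.posUnipotent F) (hcomm : IsMulCommutative A) :
    Nat.card A ^ 2 ≤ Nat.card F ^ (2 * n - k) ∧ Nat.card A ≤ Nat.card F ^ ((2 * n - k) / 2) := by
  unfold certOK at hc
  rw [Bool.and_eq_true] at hc
  obtain ⟨h1, h2⟩ := hc
  have h1' : D.nroots = 2 * n := beq_iff_eq.1 h1
  let M : Finset ℕ := (Finset.range n).filter fun i => Nat.blt (L.getD i n) n = true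
  have hMk : M.card = k := by
    rw [← hk]
    show ((Finset.range n).filter fun i => Nat.blt (L.getD i n) n = true).card = _
    rw [Finset.card_def, Finset.filter_val, Finset.range_val, Multiset.range]
    rw [Multiset.filter_coe, Multiset.coe_card]
    congr 1
    apply List.filter_congr
    intro i _
    rw [Bool.eq_iff_iff, decide_eq_true_iff]
  have h3 := card_sq_le_of_matching (F := F) hD (n := n) h1' hn0 (M := M) (g := fun i => L.getD i n)
    (g' := fun i => L'.getD i n) (by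
      intro i hi
      rw [Finset.mem_filter, Finset.mem_range] at hi
      have h4 := List.all_eq_true.1 h2 i (List.mem_range.2 hi.1)
      rw [hi.2] at h4
      simp only [Bool.not_true, Bool.false_or, Bool.true_and, Bool.and_eq_true, bne_iff_ne, beq_iff_eq] at h4
      exact ⟨hi.1, blt_iff.1 hi.2, h4.1, h4.2.1, h4.2.2⟩) hA hcomm
  rwa [hMk] at h3

end Cfsg.Agent.H332.Ab.Filt
end

-- part: H332/Ab/Cert
section
/-!
# Matching certificates for E6, E7, E8, F4 (helper332)
-/

set_option autoImplicit false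

namespace Cfsg.Agent.H332.Ab.Filt

open Cfsg.Lie

/-- matching of the positive roots of `E6` -/
def LE6 : List ℕ := [17, 32, 31, 26, 16, 6, 29, 30, 27, 25, 34, 33, 9, 7, 20, 22, 28, 24, 23, 21, 19, 5, 1, 18, 12, 2, 3, 8, 0,
  15, 14, 13, 4, 11, 10, 36]

/-- its inverse -/
def LE6' : List ℕ := [28, 22, 25, 26, 32, 21, 5, 13, 27, 12, 34, 33, 24, 31, 30, 29, 4, 0, 23, 20, 14, 19, 15, 18, 17, 9, 3, 8, 16,
  6, 7, 2, 1, 11, 10, 36]

theorem certE6 : certOK chevE6 36 LE6 LE6' = true := by (delta Cfsg.Agent.H332.Ab.Filt.certOK Cfsg.Agent.H332.Ab.Filt.chk; rewrite [Cfsg.Agent.ChevFast.E6.commTerms]; decide +kernel)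

theorem lenE6 : ((List.range 36).filter fun i => Nat.blt (LE6.getD i 36) 36).length = 35 := by decide +kernel

/-- matching of the positive roots of `E7` -/
def LE7 : List ℕ := [27, 28, 56, 26, 53, 20, 59, 15, 23, 21, 60, 45, 58, 44, 16, 55, 51, 54, 48, 49, 43, 35, 40, 41, 34, 50, 3,
  42, 32, 31, 61, 17, 22, 18, 57, 25, 9, 13, 6, 52, 29, 12, 4, 14, 47, 46, 2, 5, 7, 19, 8, 24, 39, 38, 37, 36,
  0, 1, 33, 11, 10, 30, 63]

/-- its inverse -/
def LE7' : List ℕ := [56, 57, 46, 26, 42, 47, 38, 48, 50, 36, 60, 59, 41, 37, 43, 7, 14, 31, 33, 49, 5, 9, 32, 8, 51, 35, 3, 0, 1,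
  40, 61, 29, 28, 58, 24, 21, 55, 54, 53, 52, 22, 23, 27, 20, 13, 11, 45, 44, 18, 19, 25, 16, 39, 4, 17, 15, 2,
  34, 12, 6, 10, 30, 63]

theorem certE7 : certOK chevE7 63 LE7 LE7' = true := by (delta Cfsg.Agent.H332.Ab.Filt.certOK Cfsg.Agent.H332.Ab.Filt.chk; rewrite [Cfsg.Agent.ChevFast.E7.commTerms]; decide +kernel)

theorem lenE7 : ((List.range 63).filter fun i => Nat.blt (LE7.getD i 63) 63).length = 62 := by decide +kernel

/-- matching of the positive roots of `E8` -/
def LE8 : List ℕ := [118, 117, 7, 116, 38, 75, 115, 22, 57, 85, 110, 114, 53, 86, 51, 113, 21, 42, 54, 88, 58, 104, 20, 112, 64,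
  44, 71, 60, 48, 111, 107, 106, 61, 82, 72, 80, 108, 67, 109, 49, 47, 45, 18, 24, 8, 26, 41, 105, 30, 6, 12,
  19, 10, 11, 40, 92, 103, 37, 101, 102, 34, 100, 1, 99, 39, 98, 91, 23, 79, 95, 97, 96, 94, 84, 63, 93, 29, 70,
  90, 36, 89, 52, 87, 32, 4, 78, 83, 81, 59, 74, 35, 66, 77, 76, 73, 69, 68, 15, 65, 5, 56, 62, 50, 55, 43, 46,
  31, 13, 33, 17, 27, 28, 25, 16, 14, 9, 3, 2, 0, 120]

/-- its inverse -/
def LE8' : List ℕ := [118, 62, 117, 116, 84, 99, 49, 2, 44, 115, 52, 53, 50, 107, 114, 97, 113, 109, 42, 51, 22, 16, 7, 67, 43,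
  112, 45, 110, 111, 76, 48, 106, 83, 108, 60, 90, 79, 57, 4, 64, 54, 46, 17, 104, 25, 41, 105, 40, 28, 39, 102,
  14, 81, 12, 18, 103, 100, 8, 20, 88, 27, 32, 101, 74, 24, 98, 91, 37, 96, 95, 77, 26, 34, 94, 89, 5, 93, 92,
  85, 68, 35, 87, 33, 86, 73, 9, 13, 82, 19, 80, 78, 66, 55, 75, 72, 69, 71, 70, 65, 63, 61, 58, 59, 56, 21, 47,
  31, 30, 36, 38, 10, 29, 23, 15, 11, 6, 3, 1, 0, 120]

theorem certE8 : certOK chevE8 120 LE8 LE8' = true := by (delta Cfsg.Agent.H332.Ab.Filt.certOK Cfsg.Agent.H332.Ab.Filt.chk; rewrite [Cfsg.Agent.ChevFast.E8.commTerms]; decide +kernel)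

theorem lenE8 : ((List.range 120).filter fun i => Nat.blt (LE8.getD i 120) 120).length = 119 := by decide +kernel

/-- matching of the positive roots of `F4` -/
def LF4 : List ℕ := [22, 18, 21, 15, 14, 10, 12, 19, 17, 16, 4, 7, 13, 2, 11, 3, 9, 5, 8, 6, 24, 1, 0, 24]

/-- its inverse -/
def LF4' : List ℕ := [22, 21, 13, 15, 10, 17, 19, 11, 18, 16, 5, 14, 6, 12, 4, 3, 9, 8, 1, 7, 24, 2, 0, 24]

theorem certF4 : certOK chevF4 24 LF4 LF4' = true := by decide +kernel

theorem lenF4 : ((List.range 24).filter fun i => Nat.blt (LF4.getD i 24) 24).length = 22 := by decide +kernel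

end Cfsg.Agent.H332.Ab.Filt
end

-- part: H332/Ab/PB
section
/-!
# Abelian `p`-subgroups of the Chevalley groups in characteristic `p` (helper332)

`PBE6`, `PBE7`, `PBE8`, `PBF4` of `H157.Ab.Rows`.
-/

set_option autoImplicit false

namespace Cfsg.Agent.H332.Ab.PB

open Cfsg.Lie Cfsg.Agent.ChevalleyStructure Cfsg.Agent.ChevalleyStructure.Elts Cfsg.Agent.H332.Ab.Filt
  Cfsg.Agent.H157.Ab
open scoped Pointwise

/-- an abelian `p`-subgroup is conjugate to a subgroup of a given Sylow `p`-subgroup -/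
theorem exists_conj_le {G : Type*} [Group G] [Finite G] {p : ℕ} [Fact p.Prime] (P : Sylow p G) {A : Subgroup G}
    (hA : IsPGroup p A) : ∃ g : G, A.map (MulAut.conj g).toMonoidHom ≤ (P : Subgroup G) := by
  obtain ⟨Q, hQ⟩ := hA.exists_le_sylow
  obtain ⟨g, hg⟩ := MulAction.exists_smul_eq G Q P
  refine ⟨g, ?_⟩
  rw [← hg]
  exact Subgroup.map_mono hQ

theorem card_map_conj {G : Type*} [Group G] (A : Subgroup G) (g : G) :
    Nat.card (A.map (MulAut.conj g).toMonoidHom) = Nat.card A :=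
  Nat.card_congr (A.equivMapOfInjective _ (MulAut.conj g).injective).symm.toEquiv

theorem comm_map {G H : Type*} [Group G] [Group H] (f : G →* H) {A : Subgroup G} (hA : IsMulCommutative A) :
    IsMulCommutative (A.map f) := by
  refine ⟨⟨?_⟩⟩
  rintro ⟨x, hx⟩ ⟨y, hy⟩
  obtain ⟨x', hx', rfl⟩ := hx
  obtain ⟨y', hy', rfl⟩ := hy
  apply Subtype.ext
  show f x' * f y' = f y' * f x'
  rw [← map_mul, ← map_mul]
  congr 1
  exact congrArg Subtype.val (hA.is_comm.comm ⟨x', hx'⟩ ⟨y', hy'⟩)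

/-- the general bound from a certificate -/
theorem card_le {D : ChevalleyDatum} (hD : InList D) {n k : ℕ} (hn0 : 0 < n) {L L' : List ℕ}
    (hc : certOK D n L L' = true) (hk : ((List.range n).filter fun i => Nat.blt (L.getD i n) n).length = k)
    (F : Type*) [Field F] [Fintype F] (p : ℕ) [Fact p.Prime] [CharP F p] (A : Subgroup (D.group F))
    (hA : IsMulCommutative A) (hAp : IsPGroup p A) : Nat.card A ≤ Fintype.card F ^ ((2 * n - k) / 2) := by
  obtain ⟨P, hP⟩ := Cfsg.Agent.S2326.result (F := F) p D hD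
  obtain ⟨g, hg⟩ := exists_conj_le P hAp
  have h1 : ((A.map (MulAut.conj g).toMonoidHom).map (D.group F).subtype) ≤ D.posUnipotent F := by
    rw [hP] at hg
    rintro x ⟨y, hy, rfl⟩
    exact Subgroup.mem_subgroupOf.1 (hg hy)
  have h2 := (card_sq_le_of_cert (F := F) hD hn0 hc hk h1 (comm_map _ (comm_map _ hA))).2
  have h3 : Nat.card ((A.map (MulAut.conj g).toMonoidHom).map (D.group F).subtype) = Nat.card A := by
    rw [Nat.card_congr (Subgroup.equivMapOfInjective _ _ (Subgroup.subtype_injective _)).symm.toEquiv,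
      card_map_conj]
  rw [h3, Nat.card_eq_fintype_card (α := F)] at h2
  exact h2

/-- `E₆`: `|A| ≤ q ^ 18` -/
theorem pbE6 : PBE6 := fun F _ _ p _ _ A hA hAp => card_le (by simp [InList]) (by norm_num) certE6 lenE6 F p A hA hAp

/-- `E₇`: `|A| ≤ q ^ 32` -/
theorem pbE7 : PBE7 := fun F _ _ p _ _ A hA hAp => card_le (by simp [InList]) (by norm_num) certE7 lenE7 F p A hA hAp

/-- `E₈`: `|A| ≤ q ^ 60` -/
theorem pbE8 : PBE8 := fun F _ _ p _ _ A hA hAp => card_le (by simp [InList]) (by norm_num) certE8 lenE8 F p A hA hAp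

/-- `F₄`: `|A| ≤ q ^ 13` -/
theorem pbF4 : PBF4 := fun F _ _ p _ _ A hA hAp => card_le (by simp [InList]) (by norm_num) certF4 lenF4 F p A hA hAp

end Cfsg.Agent.H332.Ab.PB
end

private theorem dce_6cd8c5b24f61 : _root_.True := by
  try have : _root_.True := by simp only [_root_.Cfsg.Agent.H332.Ab.Filt.V.eq_1]
  try have : _root_.True := by simp only [_root_.Cfsg.Agent.H332.Ab.drops.eq_1]
  try have : _root_.True := by simp only [_root_.Cfsg.Agent.H332.Ab.Filt.V.congr_simp]
  try have : _root_.True := by simp only [_root_.Cfsg.Agent.H332.Ab.bb.eq_def]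
  exact _root_.True.intro
end

-- part: H332/Ab/TwE6
section
prune_inst 0x3020040000000000000000400020028000000000400000400000040400044000000020800002100020100410300040010000300000000000003000011c00800020000400400000000000008800400000000000000000000000000000000000000000000
set_option linter.all false
open scoped Cfsg.Agent.FastGrp

/-!
# Abelian `p`-subgroups of `²E₆(q)` in characteristic `p` (helper332)

Every abelian `p`-subgroup of `²E₆(q)`, `q` a power of `p`, has order at most `q ^ 17`; in particular `PBTwE6`.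
-/

set_option autoImplicit false

namespace Cfsg.Agent.H332.Ab.TwE6

open Cfsg.Lie Cfsg.Agent.ChevalleyStructure Cfsg.Agent.ChevalleyStructure.Elts
  Cfsg.Agent.ChevalleyStructure.RootVec Cfsg.Agent.ChevalleyStructure.RootVecTab
  Cfsg.Agent.ChevalleyStructure.GraphSymm
  Cfsg.Agent.ChevalleyStructure.TwistedFix
  Cfsg.Agent.ChevalleyStructure.TwistedE6Sigma
  Cfsg.Agent.ChevalleyStructure.TwistedE6U
  Cfsg.Agent.ChevalleyStructure.TwistedE6G
  Cfsg.Agent.ChevalleyStructure.TwistedE6Rel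
  Cfsg.Agent.LieClassical Cfsg.Agent.H332.Ab.Filt Cfsg.Agent.H332.Ab.PB
open scoped commutatorElement

universe u

/-! ### two roots at a level -/

section two

variable {D : ChevalleyDatum} {F : Type u} [Field F] {m : ℕ → ℤ} {hD : InList D}

theorem exists_decomp2 (h : Checked D) {c : ℤ} (hc : 1 ≤ c) {r r2 : ℕ} (hr : r < D.nroots) (hr2 : r2 < D.nroots)
    (hfr : ff D m r = c) (hfr2 : ff D m r2 = c)
    (hlev : ∀ s < D.nroots, c ≤ ff D m s → s = r ∨ s = r2 ∨ c + 1 ≤ ff D m s) {a : GL D.Idx F}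
    (ha : a ∈ V hD F m c) : ∃ t t' : F, ∃ a' ∈ V hD F m (c + 1), a = xG hD r t * xG hD r2 t' * a' := by
  have hx : ∀ t : F, xG hD r t ∈ V hD F m c := fun t => xG_mem_V hr (by omega) t
  have hy : ∀ t : F, xG hD r2 t ∈ V hD F m c := fun t => xG_mem_V hr2 (by omega) t
  refine V_induction (P := fun a => ∃ t t' : F, ∃ a' ∈ V hD F m (c + 1), a = xG hD r t * xG hD r2 t' * a') ?_ ?_ ha
  · exact ⟨0, 0, 1, one_mem _, by rw [xG_zero, xG_zero, mul_one, mul_one]⟩
  · rintro s u hs hs1 y - ⟨t, t', a', ha', rfl⟩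
    rcases hlev s hs hs1 with rfl | rfl | h1
    · exact ⟨u + t, t', a', ha', by rw [← xG_add]; group⟩
    · refine ⟨t, u + t', ((xG hD s (u + t'))⁻¹ * ⁅(xG hD r t)⁻¹, xG hD s u⁆ * (xG hD s (u + t'))⁻¹⁻¹) * a',
        mul_mem ?_ ha', ?_⟩
      · refine V_conj h (by omega) (V_anti hc (inv_mem (hy _))) ?_
        exact V_anti (by omega) (V_comm h hc hc (inv_mem (hx t)) (hy u))
      · rw [commutatorElement_def, ← xG_add]; group
    · refine ⟨t, t', ((xG hD r t * xG hD r2 t')⁻¹ * xG hD s u * (xG hD r t * xG hD r2 t')⁻¹⁻¹) * a',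
        mul_mem ?_ ha', by group⟩
      exact V_conj h (by omega) (V_anti hc (inv_mem (mul_mem (hx _) (hy _)))) (xG_mem_V hs h1 u)

theorem mem_next2 (h : Checked D) {c : ℤ} (hc : 1 ≤ c) {r r2 : ℕ} (hr : r < D.nroots) (hr2 : r2 < D.nroots)
    (hne : r ≠ r2) (hfr : ff D m r = c) (hfr2 : ff D m r2 = c)
    (hlev : ∀ s < D.nroots, c ≤ ff D m s → s = r ∨ s = r2 ∨ c + 1 ≤ ff D m s) {i i2 : Fin D.rank}
    {z z2 : Fin D.nroots} (hi : (co D r i : F) ≠ 0) (hi2 : (co D r2 i2 : F) ≠ 0) (hz : (z : ℕ) = D.neg r)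
    (hz2 : (z2 : ℕ) = D.neg r2) {a : GL D.Idx F}
    (ha : a ∈ V hD F m c) (h0 : ka i z a = 0) (h02 : ka i2 z2 a = 0) : a ∈ V hD F m (c + 1) := by
  obtain ⟨t, t', a', ha', rfl⟩ := exists_decomp2 h hc hr hr2 hfr hfr2 hlev ha
  have hx : xG hD r t ∈ V hD F m c := xG_mem_V hr (by omega) t
  have hy : xG hD r2 t' ∈ V hD F m c := xG_mem_V hr2 (by omega) t'
  have hz' : ff D m z = - c := by rw [hz, ff_neg h hr, hfr]
  have hz2' : ff D m z2 = - c := by rw [hz2, ff_neg h hr2, hfr2]
  have hn : ¬ D.neg r = D.neg r2 := fun h1 => hne (neg_inj h hr hr2 h1)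
  have ha'' := V_anti (hD := hD) (F := F) (m := m) (show c ≤ c + 1 by omega) ha'
  rw [ka_mul_V h hc hz' (mul_mem hx hy) ha'', ka_mul_V h hc hz' hx hy, ka_xG h hr, ka_xG h hr2, if_pos hz,
    if_neg (by rw [hz]; exact hn), ka_eq_zero h (by omega) (by omega) ha', add_zero, add_zero] at h0
  rw [ka_mul_V h hc hz2' (mul_mem hx hy) ha'', ka_mul_V h hc hz2' hx hy, ka_xG h hr, ka_xG h hr2, if_pos hz2,
    if_neg (by rw [hz2]; exact Ne.symm hn), ka_eq_zero h (by omega) (by omega) ha', add_zero, zero_add] at h02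
  have ht : t = 0 := (mul_eq_zero.1 h0).resolve_left hi
  have ht' : t' = 0 := (mul_eq_zero.1 h02).resolve_left hi2
  rw [ht, ht', xG_zero, xG_zero, one_mul, one_mul]
  exact ha'

end two

/-! ### the functional and its levels -/

/-- the coefficients of the functional -/
def mt (a : ℕ) : ℤ := ([4, 2, 5, 1, 5, 4] : List ℤ).getD a 0

/-- its values -/
def fL : List ℤ := [-35, -33, -32, -27, -23, -27, -22, -18, -21, -17, -12, -19, -15, -10, -9, -4, -23, -18, -14, -17, -13, -8,
  -12, -8, -3, -2, -15, -11, -6, -5, -10, -6, -1, -9, -5, -4, 4, 5, 9, 1, 6, 10, 5, 6, 11, 15, 2, 3, 8, 12, 8,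
  13, 17, 14, 18, 23, 4, 9, 10, 15, 19, 12, 17, 21, 18, 22, 27, 23, 27, 32, 33, 35]

/-- the roots at the level `i + 1` -/
def lvL : List (List ℕ) := [[39], [46], [47], [36, 56], [37, 42], [40, 43], [], [48, 50], [38, 57], [41, 58], [44],
  [49, 61], [51], [53], [45, 59], [], [52, 62], [54, 64], [60], [], [63], [65], [55, 67], [], [], [], [66, 68], [],
  [], [], [], [69], [70], [], [71]]

/-- the roots at the level `i + 1` -/
def lv (i : ℕ) : List ℕ := lvL.getD i []

/-- adjacency of levels -/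
def adjL : List ℕ := [2148602130, 4295247393, 2147763472, 4207792, 2230797, 1116426, 0, 279304, 139429, 69778, 3147790,
  17456, 2359817, 1310984, 2182, 0, 545, 272, 12422, 0, 9249, 5136, 8, 0, 0, 0, 0, 0, 0, 0, 0, 5, 2, 0, 0]

/-- adjacency of levels -/
def adj (i : ℕ) : ℕ := adjL.getD i 0

/-- the order of the levels for branch and bound -/
def orderL : List ℕ := [0, 1, 3, 4, 2, 5, 8, 10, 7, 9, 12, 18, 11, 13, 14, 20, 16, 21, 17, 31, 22, 32, 26, 34]

theorem ff_eq (D : ChevalleyDatum) (m : ℕ → ℤ) (r : ℕ) :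
    ff D m r = ((List.range D.rank).map fun a => m a * rt D r a).sum := by
  unfold ff
  rw [← List.sum_toFinset _ List.nodup_range, List.toFinset_range]

theorem nroots : chevE6.nroots = 72 := by decide +kernel

theorem tab_check : ((List.range 72).all fun r =>
    ((List.range 6).map fun a => mt a * rt chevE6 r a).sum == fL.getD r 0) = true := by decide +kernel

theorem rank : chevE6.rank = 6 := by decide +kernel

theorem ff_tab {r : ℕ} (hr : r < 72) : ff chevE6 mt r = fL.getD r 0 := by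
  rw [ff_eq, rank]
  exact beq_iff_eq.1 (List.all_eq_true.1 tab_check r (List.mem_range.2 hr))

theorem fL_lv : ∀ r < 72, 1 ≤ fL.getD r 0 → r ∈ lv ((fL.getD r 0) - 1).toNat ∧ fL.getD r 0 ≤ 35 := by decide +kernel

theorem lv_fL : ∀ i < 35, ∀ r ∈ lv i, r < 72 ∧ fL.getD r 0 = i + 1 := by decide +kernel

theorem fL_rho : ∀ r < 72, fL.getD (rho r) 0 = fL.getD r 0 := by decide +kernel

theorem lv_kind : ∀ i < 35, lv i = [] ∨ (∃ r ∈ lv i, lv i = [r] ∧ rho r = r ∧ eps r = 1) ∨
    (∃ r ∈ lv i, ∃ r' ∈ lv i, lv i = [r, r'] ∧ r ≠ r' ∧ rho r = r' ∧ rho r' = r) := by decide +kernel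

/-- the check for an edge -/
def edgeChk (r s : ℕ) (Li Lj : List ℕ) : Bool :=
  r != s && match chevE6.commTerms s r with
  | [] => false
  | c :: cs => (c.2.1 == 1 || c.2.1 == -1) && (c.2.2.1 == 1 && (c.2.2.2 == 1 && ((cs.all fun c' => c'.1 != c.1) &&
      (Li.all fun r' => Lj.all fun s' => (r' == r && s' == s) || csum chevE6 s' r' c.1 == 0))))

/-- levels `i`, `j` are joined -/
def edge (i j : ℕ) : Bool := (lv i).any fun r => (lv j).any fun s => edgeChk r s (lv i) (lv j)

theorem edge_check : ((List.range 35).all fun i => (List.range 35).all fun j =>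
    !((adj i).testBit j) || edge i j) = true := by decide +kernel

theorem bb_check : bb adj (fun i => (lv i).length) orderL 0 17 = true := by decide +kernel

theorem order_check : orderL.Nodup ∧ ∀ i < 35, (lv i).length ≠ 0 → i ∈ orderL := by decide +kernel

theorem good_of_edge {K : Type u} [Field K] {i j : ℕ} (hi : i < 35) (hj : j < 35) (he : edge i j = true) :
    ∃ r ∈ lv i, ∃ s ∈ lv j, ∃ k, Good chevE6 K mt ((i : ℤ) + 1) ((j : ℤ) + 1) r s k := by
  have h := checked_of_mem hE6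
  unfold edge at he
  rw [List.any_eq_true] at he
  obtain ⟨r, hr, he⟩ := he
  rw [List.any_eq_true] at he
  obtain ⟨s, hs, he⟩ := he
  refine ⟨r, hr, s, hs, ?_⟩
  obtain ⟨hr1, hr2⟩ := lv_fL i hi r hr
  obtain ⟨hs1, hs2⟩ := lv_fL j hj s hs
  unfold edgeChk at he
  rw [Bool.and_eq_true] at he
  obtain ⟨hne, he⟩ := he
  cases hL : chevE6.commTerms s r with
  | nil => rw [hL] at he; exact absurd he (by simp)
  | cons c cs =>
    rw [hL] at he
    simp only [Bool.and_eq_true, Bool.or_eq_true, beq_iff_eq, List.all_eq_true, bne_iff_ne] at he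
    obtain ⟨h1, h2, h3, h4, h5⟩ := he
    have hc : c ∈ chevE6.commTerms s r := by rw [hL]; exact List.mem_cons_self
    obtain ⟨h6, -, -, h7⟩ := ff_term (m := mt) h hc
    have hfr : ff chevE6 mt r = (i : ℤ) + 1 := by rw [ff_tab hr1, hr2]
    have hfs : ff chevE6 mt s = (j : ℤ) + 1 := by rw [ff_tab hs1, hs2]
    have hcs : csum chevE6 s r c.1 = c.2.1 := by
      unfold csum
      have h8 : (cs.map fun c' => if c'.1 = c.1 then c'.2.1 else 0).sum = 0 := by
        rw [List.map_congr_left (g := fun _ => (0 : ℤ)) fun c' hc' => if_neg (h4 c' hc')]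
        simp
      rw [hL, List.map_cons, List.sum_cons, if_pos rfl, h8, add_zero]
    refine ⟨c.1, by rw [nroots]; exact hr1, by rw [nroots]; exact hs1, h6, hfr, hfs, ?_, bne_iff_ne.1 hne, ?_, ?_⟩
    · rw [h7, h2, h3, hfr, hfs]; push_cast; ring
    · rw [hcs]
      rcases h1 with h1 | h1 <;> rw [h1]
      · rw [Int.cast_one]; exact one_ne_zero
      · rw [Int.cast_neg, Int.cast_one]; exact neg_ne_zero.2 one_ne_zero
    · intro r' s' hr' hs' hfr' hfs' _ hcs'
      rw [nroots] at hr' hs'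
      rw [ff_tab hr'] at hfr'
      rw [ff_tab hs'] at hfs'
      have e1 := (fL_lv r' hr' (by omega)).1
      have e2 := (fL_lv s' hs' (by omega)).1
      rw [hfr', show ((i : ℤ) + 1 - 1).toNat = i by omega] at e1
      rw [hfs', show ((j : ℤ) + 1 - 1).toNat = j by omega] at e2
      rcases h5 r' e1 s' e2 with h9 | h9
      · exact h9
      · rw [h9, Int.cast_zero] at hcs'
        exact absurd rfl hcs'

/-! ### the action of the Frobenius map on the coordinates -/

section sigma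

variable {K : Type u} [Field K] (φ : K →+* K)

theorem ka_sig {c : ℤ} (hc : 1 ≤ c) {g : GL chevE6.Idx K} (hg : g ∈ V hE6 K mt c) {r : ℕ} (hr : r < 72)
    (hfr : ff chevE6 mt r = c) (i j : Fin chevE6.rank) (z z' : Fin chevE6.nroots) (hz : (z : ℕ) = chevE6.neg r)
    (hz' : (z' : ℕ) = chevE6.neg (rho r)) : sig symmE6 φ g ∈ V hE6 K mt c ∧
      (co chevE6 r i : K) * ka j z' (sig symmE6 φ g) = (co chevE6 (rho r) j : K) * ((eps r : ℤ) : K) * φ (ka i z g) := by
  have h := checked_of_mem hE6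
  have hrr : rho r < 72 := rho_lt r hr
  have hfrr : ff chevE6 mt (rho r) = c := by rw [ff_tab hrr, fL_rho r hr, ← ff_tab hr, hfr]
  have hfz : ff chevE6 mt z = - c := by rw [hz, ff_neg h (by rw [nroots]; exact hr), hfr]
  have hfz' : ff chevE6 mt z' = - c := by rw [hz', ff_neg h (by rw [nroots]; exact hrr), hfrr]
  refine V_induction (P := fun g => sig symmE6 φ g ∈ V hE6 K mt c ∧
      (co chevE6 r i : K) * ka j z' (sig symmE6 φ g) =
        (co chevE6 (rho r) j : K) * ((eps r : ℤ) : K) * φ (ka i z g)) ?_ ?_ hg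
  · rw [map_one, ka_one, ka_one, map_zero, mul_zero, mul_zero]
    exact ⟨one_mem _, rfl⟩
  · rintro s u hs hs1 y hy ⟨ih1, ih2⟩
    have hs' := hs
    rw [nroots] at hs'
    have hss : rho s < 72 := rho_lt s hs'
    have e1 : sig symmE6 φ (xG hE6 s u) = xG hE6 (rho s) (((eps s : ℤ) : K) * φ u) := sig_X φ hs' u
    have hx : xG hE6 (rho s) (((eps s : ℤ) : K) * φ u) ∈ V hE6 K mt c := by
      refine xG_mem_V (by rw [nroots]; exact hss) ?_ _
      rw [ff_tab hss, fL_rho s hs', ← ff_tab hs']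
      exact hs1
    rw [map_mul, e1]
    refine ⟨mul_mem hx ih1, ?_⟩
    rw [ka_mul_V h hc hfz' hx ih1, ka_mul_V h hc hfz (xG_mem_V hs hs1 u) hy, mul_add, ih2, map_add, mul_add,
      ka_xG h (by rw [nroots]; exact hss), ka_xG h hs]
    congr 1
    by_cases hsr : s = r
    · subst hsr
      rw [if_pos hz', if_pos hz, map_mul, map_intCast]
      ring
    · have e2 : ¬ (z' : ℕ) = chevE6.neg (rho s) := by
        rw [hz']
        intro h1
        have h2 := neg_inj h (by rw [nroots]; exact hrr) (by rw [nroots]; exact hss) h1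
        apply hsr
        rw [← rho_rho s hs', ← h2, rho_rho r hr]
      have e3 : ¬ (z : ℕ) = chevE6.neg s := by
        rw [hz]
        intro h1
        exact hsr (neg_inj h (by rw [nroots]; exact hr) hs h1).symm
      rw [if_neg e2, if_neg e3, map_zero, mul_zero, mul_zero]

end sigma

/-! ### the levels of the twisted group -/

section main

variable {K : Type u} [Field K]

theorem lev_cases {i : ℕ} {s : ℕ} (hs : s < chevE6.nroots) (hle : (i : ℤ) + 1 ≤ ff chevE6 mt s) :
    s ∈ lv i ∨ (i : ℤ) + 1 + 1 ≤ ff chevE6 mt s := by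
  rw [nroots] at hs
  rw [ff_tab hs] at hle ⊢
  by_cases h1 : fL.getD s 0 = (i : ℤ) + 1
  · left
    have h2 := (fL_lv s hs (by omega)).1
    rwa [h1, show ((i : ℤ) + 1 - 1).toNat = i by omega] at h2
  · right; omega

theorem V_empty {i : ℕ} (h0 : lv i = []) : V hE6 K mt ((i : ℤ) + 1) = V hE6 K mt ((i : ℤ) + 1 + 1) := by
  refine V_eq (by omega) fun r hr hle => ?_
  rcases lev_cases hr hle with h1 | h1
  · rw [h0] at h1; exact absurd h1 (by simp)
  · exact h1

/-- the coordinate at `r` determines a fixed element modulo the next level -/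
theorem mem_next_fix (φ : K →+* K) {i : ℕ} (hi : i < 35) {r : ℕ} (hr : r ∈ lv i) {i0 : Fin chevE6.rank}
    (h0 : (co chevE6 r i0 : K) ≠ 0) {z : Fin chevE6.nroots} (hz : (z : ℕ) = chevE6.neg r) {a : GL chevE6.Idx K}
    (ha : a ∈ V hE6 K mt ((i : ℤ) + 1)) (hfix : sig symmE6 φ a = a) (hka : ka i0 z a = 0) :
    a ∈ V hE6 K mt ((i : ℤ) + 1 + 1) := by
  have h := checked_of_mem hE6
  obtain ⟨hr1, hr2⟩ := lv_fL i hi r hr
  have hfr : ff chevE6 mt r = (i : ℤ) + 1 := by rw [ff_tab hr1, hr2]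
  rcases lv_kind i hi with h1 | ⟨r0, -, h1, -, -⟩ | ⟨r1, -, r2, -, h1, hne, h2, h3⟩
  · rw [h1] at hr; exact absurd hr (by simp)
  · refine mem_next h (by omega) (by omega) (by rw [nroots]; exact hr1) hfr ?_ h0 hz ha hka
    intro s hs hle
    rcases lev_cases hs hle with h4 | h4
    · left
      rw [h1, List.mem_singleton] at h4 hr
      rw [h4, hr]
    · exact Or.inr h4
  · -- the other root
    have hrr : rho r ∈ lv i ∧ r ≠ rho r ∧ (∀ s ∈ lv i, s = r ∨ s = rho r) := by
      rw [h1] at hr ⊢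
      simp only [List.mem_cons, List.not_mem_nil, or_false] at hr ⊢
      rcases hr with rfl | rfl
      · rw [h2]; exact ⟨Or.inr rfl, hne, fun s hs => hs⟩
      · rw [h3]; exact ⟨Or.inl rfl, hne.symm, fun s hs => hs.symm⟩
    obtain ⟨hm, hne', hall⟩ := hrr
    obtain ⟨hr1', hr2'⟩ := lv_fL i hi _ hm
    have hfr' : ff chevE6 mt (rho r) = (i : ℤ) + 1 := by rw [ff_tab hr1', hr2']
    obtain ⟨j0, hj0⟩ := exists_co_ne hE6 K (r := rho r) (by rw [nroots]; exact hr1')
    have h4 := (ka_sig φ (by omega) ha hr1 hfr i0 j0 z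
      ⟨chevE6.neg (rho r), neg_lt h (by rw [nroots]; exact hr1')⟩ hz rfl).2
    rw [hfix, hka, map_zero, mul_zero] at h4
    have h5 := (mul_eq_zero.1 h4).resolve_left h0
    refine mem_next2 h (by omega) (by rw [nroots]; exact hr1) (by rw [nroots]; exact hr1') hne' hfr hfr' ?_
      h0 hj0 hz rfl ha hka h5
    intro s hs hle
    rcases lev_cases hs hle with h6 | h6
    · rcases hall s h6 with h7 | h7
      · exact Or.inl h7
      · exact Or.inr (Or.inl h7)
    · exact Or.inr (Or.inr h6)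

theorem pos_le : chevE6.posUnipotent K ≤ V hE6 K mt 1 := by
  have h := checked_of_mem hE6
  rw [posUnipotent_le_iff hE6]
  intro r hr t
  have h1 : 36 ≤ r ∧ r < 72 := by
    have h2 := (isPosRoot_iff_index h hr.1).1 hr
    have h3 := neg_add h hr.1
    have h4 := hr.1
    rw [nroots] at h3 h4
    omega
  have h5 : ∀ r, 36 ≤ r → r < 72 → 1 ≤ fL.getD r 0 := by decide +kernel
  refine xG_mem_V hr.1 ?_ t
  rw [ff_tab h1.2]
  exact h5 r h1.1 h1.2

/-- **Abelian unipotent subgroups of `²E₆(q)`.** -/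
theorem card_le_unip [Fintype K] {q : ℕ} (hq : IsPrimePow q) (hK : Fintype.card K = q ^ 2)
    {A : Subgroup (GL chevE6.Idx K)} (hA : A ≤ chevE6.posUnipotent K ⊓ twistedE6 K q)
    (hcomm : IsMulCommutative A) : Nat.card A ≤ q ^ 17 := by
  have h := checked_of_mem hE6
  obtain ⟨φ, hφ⟩ := exists_frob hq two_ne_zero hK
  have hφφ : ∀ t, φ (φ t) = t := fun t => by
    rw [hφ, hφ]
    exact HermBasic.pow_q_pow_q hK t
  have hfix : ∀ a ∈ A, sig symmE6 φ a = a := fun a ha => twistedE6_le_fix hφ hφφ (hA ha).2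
  have hfin : Finite (GL chevE6.Idx K) := inferInstance
  have key : ∀ i, i < 35 → ∀ r ∈ lv i, ∀ a ∈ A, a ∈ V hE6 K mt ((i : ℤ) + 1) → a ∉ V hE6 K mt ((i : ℤ) + 1 + 1) →
      ∀ z : Fin chevE6.nroots, (z : ℕ) = chevE6.neg r → ∃ (i0 : Fin chevE6.rank), ka i0 z a ≠ 0 := by
    intro i hi r hr a haA ha ha' z hz
    obtain ⟨i0, hi0⟩ := exists_co_ne hE6 K (r := r) (by rw [nroots]; exact (lv_fL i hi r hr).1)
    exact ⟨i0, fun h0 => ha' (mem_next_fix φ hi hr hi0 hz ha (hfix a haA) h0)⟩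
  refine card_le_of_bb (U := fun i => V hE6 K mt ((i : ℤ) + 1)) (w := fun i => (lv i).length) (q := q) (A := A)
    ?_ hcomm 35 (fun i _ => V_anti (by push_cast; omega)) ?_ ?_ hq.one_lt.le (adj := adj) (l := orderL) (B := 17)
    order_check.1 (fun i hi h0 => order_check.2 i hi h0) bb_check ?_
  · refine (hA.trans inf_le_left).trans (pos_le.trans (le_of_eq ?_))
    show V hE6 K mt 1 = V hE6 K mt (((0 : ℕ) : ℤ) + 1)
    rw [Nat.cast_zero, zero_add]
  · intro i hi hnot
    show (V hE6 K mt (((i + 1 : ℕ) : ℤ) + 1)).relIndex (A ⊓ V hE6 K mt ((i : ℤ) + 1)) ≤ q ^ (lv i).length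
    have hcast : (((i + 1 : ℕ) : ℤ) + 1) = (i : ℤ) + 1 + 1 := by push_cast; ring
    rw [hcast]
    have hsub : ∀ (r : ℕ), r ∈ lv i → ∀ (i0 : Fin chevE6.rank), (co chevE6 r i0 : K) ≠ 0 →
        ∀ z : Fin chevE6.nroots, (z : ℕ) = chevE6.neg r →
        ∀ a ∈ A ⊓ V hE6 K mt ((i : ℤ) + 1), ∀ b ∈ A ⊓ V hE6 K mt ((i : ℤ) + 1), ka i0 z a = ka i0 z b →
          a⁻¹ * b ∈ V hE6 K mt ((i : ℤ) + 1 + 1) := by
      intro r hr i0 hi0 z hz a ha b hb hab
      have hr1 := (lv_fL i hi r hr).1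
      have hfr : ff chevE6 mt r = (i : ℤ) + 1 := by rw [ff_tab hr1, (lv_fL i hi r hr).2]
      have hzf : ff chevE6 mt z = - ((i : ℤ) + 1) := by rw [hz, ff_neg h (by rw [nroots]; exact hr1), hfr]
      refine mem_next_fix φ hi hr hi0 hz (mul_mem (inv_mem ha.2) hb.2) ?_ ?_
      · exact hfix _ (mul_mem (inv_mem ha.1) hb.1)
      · rw [ka_mul_V h (by omega) hzf (inv_mem ha.2) hb.2, ka_inv h (by omega) hzf ha.2, hab, neg_add_cancel]
    rcases lv_kind i hi with h1 | ⟨r, hr, h1, hrho, heps⟩ | ⟨r1, hr, r2, -, h1, hne, h2, h3⟩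
    · exfalso
      apply hnot
      show A ⊓ V hE6 K mt ((i : ℤ) + 1) ≤ V hE6 K mt (((i + 1 : ℕ) : ℤ) + 1)
      rw [hcast, ← V_empty h1]
      exact inf_le_right
    · rw [h1, List.length_singleton, pow_one]
      have hr1 := (lv_fL i hi r hr).1
      have hfr : ff chevE6 mt r = (i : ℤ) + 1 := by rw [ff_tab hr1, (lv_fL i hi r hr).2]
      obtain ⟨i0, hi0⟩ := exists_co_ne hE6 K (r := r) (by rw [nroots]; exact hr1)
      let z : Fin chevE6.nroots := ⟨chevE6.neg r, neg_lt h (by rw [nroots]; exact hr1)⟩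
      have hval : ∀ a ∈ A ⊓ V hE6 K mt ((i : ℤ) + 1), φ (ka i0 z a) = ka i0 z a := by
        intro a ha
        have h4 := (ka_sig φ (by omega) ha.2 hr1 hfr i0 i0 z z rfl (by rw [hrho])).2
        rw [hfix a ha.1, hrho, heps, Int.cast_one, mul_one] at h4
        exact (mul_left_cancel₀ hi0 h4).symm
      have hcard : Nat.card {v : K // φ v = v} = q := by
        have h2 : Nat.card {v : K // φ v = v} = Nat.card {v : K // v ^ q = v} :=
          Nat.card_congr (Equiv.subtypeEquivRight fun v => by rw [hφ])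
        rw [h2, HermBasic.card_fixed hK]
      classical
      rw [← hcard]
      refine relIndex_le_of_inj (X := {v : K // φ v = v})
        (φ := fun a => if h5 : φ (ka i0 z a) = ka i0 z a then ⟨ka i0 z a, h5⟩ else ⟨0, map_zero φ⟩) ?_
      intro a ha b hb hab
      refine hsub r hr i0 hi0 z rfl a ha b hb ?_
      rw [dif_pos (hval a ha), dif_pos (hval b hb)] at hab
      exact congrArg Subtype.val hab
    · have hlen : (lv i).length = 2 := by rw [h1]; rfl
      rw [hlen, ← hK, ← Nat.card_eq_fintype_card]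
      have hr1 := (lv_fL i hi r1 hr).1
      obtain ⟨i0, hi0⟩ := exists_co_ne hE6 K (r := r1) (by rw [nroots]; exact hr1)
      exact relIndex_le_of_inj (X := K)
        (φ := ka i0 ⟨chevE6.neg r1, neg_lt h (by rw [nroots]; exact hr1)⟩)
        (fun a ha b hb hab => hsub r1 hr i0 hi0 _ rfl a ha b hb hab)
  · apply V_eq_bot
    intro r hr
    show ff chevE6 mt r < ((35 : ℕ) : ℤ) + 1
    rw [nroots] at hr
    rw [ff_tab hr]
    have := fL_lv r hr
    push_cast
    omega
  · intro i hi j hj hadj a haA haU haU' b hbA hbU hbU'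
    have h1 := List.all_eq_true.1 (List.all_eq_true.1 edge_check i (List.mem_range.2 hi)) j (List.mem_range.2 hj)
    rw [hadj, Bool.not_true, Bool.false_or] at h1
    obtain ⟨r, hr, s, hs, k, Gd⟩ := good_of_edge (K := K) hi hj h1
    have hcast : ∀ i : ℕ, (((i + 1 : ℕ) : ℤ) + 1) = (i : ℤ) + 1 + 1 := by intro i; push_cast; ring
    have hrn := Gd.hr
    have hsn := Gd.hs
    obtain ⟨i1, hi1⟩ := key i hi r hr a haA haU (by rw [← hcast]; exact haU') ⟨chevE6.neg r, neg_lt h hrn⟩ rfl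
    obtain ⟨i2, hi2⟩ := key j hj s hs b hbA hbU (by rw [← hcast]; exact hbU') ⟨chevE6.neg s, neg_lt h hsn⟩ rfl
    exact not_comm h (by omega) (by omega) Gd rfl rfl haU hbU hi1 hi2

/-- the unipotent group is a Sylow subgroup -/
theorem exists_sylow [Fintype K] {q : ℕ} (hq : IsPrimePow q) (hK : Fintype.card K = q ^ 2) (p : ℕ) [Fact p.Prime]
    [CharP K p] : ∃ P : Sylow p ↥(twistedE6 K q), (P : Subgroup ↥(twistedE6 K q)) =
      (chevE6.posUnipotent K).subgroupOf (twistedE6 K q) := by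
  have hpq : p ∣ q := by
    have h1 : p ∣ Fintype.card K := by
      obtain ⟨n, hp, hn⟩ := FiniteField.card K p
      rw [hn]
      exact dvd_pow_self p n.2.ne'
    rw [hK] at h1
    exact (Fact.out : p.Prime).dvd_of_dvd_pow h1
  obtain ⟨p', k, hp', hk, rfl⟩ := hq
  have hpp : p = p' := by
    have h1 := (Fact.out : p.Prime).dvd_of_dvd_pow hpq
    exact (Nat.prime_dvd_prime_iff_eq Fact.out hp'.nat_prime).1 h1
  subst hpp
  have hq : IsPrimePow (p ^ k) := ⟨p, k, hp', hk, rfl⟩
  set q := p ^ k with hqdef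
  have hcard : Nat.card ((chevE6.posUnipotent K).subgroupOf (twistedE6 K q)) = q ^ 36 := by
    rw [← Cfsg.Agent.S1086.result hq hK]
    have h1 := Subgroup.inf_subgroupOf_right (chevE6.posUnipotent K) (twistedE6 K q)
    rw [← h1]
    exact Nat.card_congr (Subgroup.subgroupOfEquivOfLe inf_le_right).toEquiv
  have hPp : IsPGroup p ((chevE6.posUnipotent K).subgroupOf (twistedE6 K q)) := by
    apply IsPGroup.of_card (n := k * 36)
    rw [hcard, hqdef, ← pow_mul]
  have hidx : ¬ p ∣ ((chevE6.posUnipotent K).subgroupOf (twistedE6 K q)).index := by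
    have h1 := Cfsg.Agent.S1066.result hq hK
    have h2 := ((chevE6.posUnipotent K).subgroupOf (twistedE6 K q)).card_mul_index
    rw [hcard] at h2
    rw [← h2] at h1
    have h3 : Nat.gcd 3 (q + 1) * ((chevE6.posUnipotent K).subgroupOf (twistedE6 K q)).index =
        (q ^ 2 - 1) * (q ^ 5 + 1) * (q ^ 6 - 1) * (q ^ 8 - 1) * (q ^ 9 + 1) * (q ^ 12 - 1) := by
      have h4 : 0 < q ^ 36 := pow_pos hq.pos 36
      apply Nat.eq_of_mul_eq_mul_left h4
      rw [← mul_assoc, mul_comm (q ^ 36) (Nat.gcd 3 (q + 1)), mul_assoc, h1]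
      ring
    intro h5
    have h6 : p ∣ (q ^ 2 - 1) * (q ^ 5 + 1) * (q ^ 6 - 1) * (q ^ 8 - 1) * (q ^ 9 + 1) * (q ^ 12 - 1) := by
      rw [← h3]; exact h5.mul_left _
    have hp : p.Prime := Fact.out
    have hm : ∀ n, n ≠ 0 → ¬ p ∣ q ^ n - 1 := by
      intro n hn h7
      have h8 : p ∣ q ^ n := dvd_pow hpq hn
      have h9 : 1 ≤ q ^ n := Nat.one_le_pow _ _ hq.pos
      have h10 : p ∣ 1 := by
        have := Nat.dvd_sub h8 h7
        rwa [show q ^ n - (q ^ n - 1) = 1 by omega] at this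
      exact hp.one_lt.ne' (Nat.dvd_one.1 h10)
    have hpl : ∀ n, n ≠ 0 → ¬ p ∣ q ^ n + 1 := by
      intro n hn h7
      have h8 : p ∣ q ^ n := dvd_pow hpq hn
      exact hp.one_lt.ne' (Nat.dvd_one.1 ((Nat.dvd_add_right h8).1 h7))
    rw [hp.dvd_mul, hp.dvd_mul, hp.dvd_mul, hp.dvd_mul, hp.dvd_mul] at h6
    rcases h6 with ((((h6 | h6) | h6) | h6) | h6) | h6
    · exact hm 2 (by norm_num) h6
    · exact hpl 5 (by norm_num) h6
    · exact hm 6 (by norm_num) h6
    · exact hm 8 (by norm_num) h6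
    · exact hpl 9 (by norm_num) h6
    · exact hm 12 (by norm_num) h6
  exact ⟨hPp.toSylow hidx, rfl⟩

/-- **Abelian `p`-subgroups of `²E₆(q)` have order at most `q ^ 17`.** -/
theorem card_le [Fintype K] {q : ℕ} (hq : IsPrimePow q) (hK : Fintype.card K = q ^ 2) (p : ℕ) [Fact p.Prime]
    [CharP K p] (A : Subgroup ↥(twistedE6 K q)) (hA : IsMulCommutative A) (hAp : IsPGroup p A) :
    Nat.card A ≤ q ^ 17 := by
  obtain ⟨P, hP⟩ := exists_sylow hq hK p
  obtain ⟨g, hg⟩ := exists_conj_le P hAp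
  have h1 : ((A.map (MulAut.conj g).toMonoidHom).map (twistedE6 K q).subtype) ≤
      chevE6.posUnipotent K ⊓ twistedE6 K q := by
    rw [hP] at hg
    rintro x ⟨y, hy, rfl⟩
    exact ⟨Subgroup.mem_subgroupOf.1 (hg hy), y.2⟩
  have h2 := card_le_unip hq hK h1 (comm_map _ (comm_map _ hA))
  have h3 : Nat.card ((A.map (MulAut.conj g).toMonoidHom).map (twistedE6 K q).subtype) = Nat.card A := by
    rw [Nat.card_congr (Subgroup.equivMapOfInjective _ _ (Subgroup.subtype_injective _)).symm.toEquiv,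
      card_map_conj]
  rwa [h3] at h2

end main

open Cfsg.Agent.H157.Ab in
theorem pbTwE6 : PBTwE6 := by
  intro K _ _ q hK p _ _ A hA hAp
  have hq : IsPrimePow q := by
    obtain ⟨n, hp, hn⟩ := FiniteField.card K p
    rw [hK] at hn
    have h1 : IsPrimePow (q ^ 2) := ⟨p, n, hp.prime, n.2, hn.symm⟩
    exact (isPrimePow_pow_iff two_ne_zero).1 h1
  calc Nat.card A ^ 2 ≤ (q ^ 17) ^ 2 := Nat.pow_le_pow_left (card_le hq hK p A hA hAp) 2
    _ = q ^ 34 := by rw [← pow_mul]
    _ ≤ q ^ 37 := Nat.pow_le_pow_right hq.pos (by norm_num)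

end Cfsg.Agent.H332.Ab.TwE6
end
end
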